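import Groth.Agent.CubicLib.SingularLines

/-!
# Tangent planes, T-points and lines of a cubic surface
-/

universe u

namespace Groth.Agent.Cubic70

open Module CubicLib

variable {K : Type u} [Field K]

/-- The ambient space. -/
abbrev V (K : Type u) : Type u := Fin 4 → K

variable (G : Cubic K (V K))

/-- The tangent plane. -/
def tan (b : V K) : Submodule K (V K) := LinearMap.ker (G.T b b)

/-- A line on the surface. -/
def IsLine (U : Submodule K (V K)) : Prop := finrank K U = 2 ∧ ∀ u ∈ U, G.F u = 0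

/-- No linear factor. -/
def Irr : Prop := ∀ (L : V K →ₗ[K] K) (B : V K →ₗ[K] V K →ₗ[K] K), ¬ ∀ v, G.F v = L v * B v v

/-- Not a cone. -/
def NoCone : Prop := ∀ v, v ≠ 0 → G.T v ≠ 0

/-- The section by `H` is a union of lines. -/
def Union3 (H : Submodule K (V K)) : Prop :=
  ∃ l₁ l₂ l₃ : V K →ₗ[K] K, ∀ h ∈ H, G.F h = l₁ h * l₂ h * l₃ h

/-- A T-point. -/
def IsT (b : V K) : Prop := b ≠ 0 ∧ G.F b = 0 ∧ G.T b b ≠ 0 ∧ Union3 G (tan G b)

variable {G}

theorem F_zero : G.F 0 = 0 := by simp [Cubic.F]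

theorem finrank_tan {b : V K} (h : G.T b b ≠ 0) : finrank K (tan G b) = 3 := by
  have h1 := LinearMap.finrank_range_add_finrank_ker (G.T b b)
  have h2 := (Submodule.finrank_le (LinearMap.range (G.T b b))).trans_eq (Module.finrank_self K)
  have h4 : finrank K (LinearMap.range (G.T b b)) ≠ 0 := fun he =>
    h (LinearMap.range_eq_bot.1 (Submodule.finrank_eq_zero.1 he))
  rw [Module.finrank_fin_fun] at h1
  show finrank K (LinearMap.ker (G.T b b)) = 3
  omega

theorem mem_tan {b h : V K} : h ∈ tan G b ↔ G.T b b h = 0 := LinearMap.mem_ker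

theorem self_mem_tan {b : V K} (h : G.F b = 0) : b ∈ tan G b := mem_tan.2 h

theorem exists_smul_add {U : Submodule K (V K)} {x y v : V K} (hU : finrank K U = 2) (hx : x ∈ U) (hy : y ∈ U)
    (hli : LinearIndependent K ![x, y]) (hv : v ∈ U) : ∃ s t : K, v = s • x + t • y := by
  rw [CubicLib.eq_line hx hy hU hli] at hv
  obtain ⟨s, t, h⟩ := Submodule.mem_span_pair.1 hv
  exact ⟨s, t, h.symm⟩

theorem finrank_span_pair_li {x y : V K} (hli : LinearIndependent K ![x, y]) :
    finrank K (Submodule.span K {x, y}) = 2 := by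
  rw [← Matrix.range_cons_cons_empty x y ![], finrank_span_eq_card hli, Fintype.card_fin]

theorem exists_basis₂ {U : Submodule K (V K)} (hU : finrank K U = 2) :
    ∃ x y, x ∈ U ∧ y ∈ U ∧ LinearIndependent K ![x, y] := by
  obtain ⟨b, hb⟩ := exists_linearIndependent_of_le_finrank (le_of_eq hU.symm)
  refine ⟨(b 0).1, (b 1).1, (b 0).2, (b 1).2, ?_⟩
  rw [show ![((b 0).1 : V K), (b 1).1] = U.subtype ∘ b from by funext i; fin_cases i <;> rfl]
  exact hb.map' _ U.ker_subtype

theorem exists_mem_notMem {U : Submodule K (V K)} (hU : finrank K U = 2) (a : V K) :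
    ∃ u ∈ U, u ∉ Submodule.span K {a} := by
  by_contra! h
  have h1 := Submodule.finrank_mono (show U ≤ Submodule.span K {a} from h)
  have h2 := finrank_span_le_card ({a} : Set (V K)) (R := K)
  simp at h2
  omega

theorem li_pair_of_notMem {a u : V K} (ha : a ≠ 0) (h : u ∉ Submodule.span K {a}) : LinearIndependent K ![a, u] :=
  (LinearIndependent.pair_iff' ha).2 fun c hc => h (Submodule.mem_span_singleton.2 ⟨c, hc⟩)

theorem li_three_of_notMem {x y z : V K} (hli : LinearIndependent K ![x, y]) (h : z ∉ Submodule.span K {x, y}) :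
    LinearIndependent K ![z, x, y] :=
  linearIndependent_finCons.2 ⟨hli, by rwa [Matrix.range_cons_cons_empty]⟩

theorem exists_mem_of_li {x y z : V K} (hli : LinearIndependent K ![x, y, z]) {H : Submodule K (V K)}
    (hH : finrank K H = 3) (hx : x ∈ H) (hy : y ∈ H) (hz : z ∈ H) :
    ∃ φ₁ φ₂ φ₃ : V K →ₗ[K] K, ∀ h ∈ H, h = φ₁ h • x + φ₂ h • y + φ₃ h • z := by
  have hspan : Submodule.span K (Set.range ![x, y, z]) = H := by
    refine Submodule.eq_of_le_of_finrank_eq (Submodule.span_le.2 ?_) (by rw [finrank_span_eq_card hli, hH, Fintype.card_fin])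
    rintro _ ⟨i, rfl⟩; fin_cases i <;> assumption
  let b : Basis (Fin 3) K H := (Basis.span hli).map (LinearEquiv.ofEq _ _ hspan)
  have hb : ∀ i, (b i : V K) = ![x, y, z] i := fun i => by
    simp [b, Basis.span_apply]
  choose φ hφ using fun i => LinearMap.exists_extend (b.coord i)
  refine ⟨φ 0, φ 1, φ 2, fun h hh => ?_⟩
  have e := congrArg Subtype.val (b.sum_repr ⟨h, hh⟩)
  have hc : ∀ i, φ i h = b.repr ⟨h, hh⟩ i := fun i => LinearMap.congr_fun (hφ i) ⟨h, hh⟩
  rw [hc, hc, hc]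
  rw [Fin.sum_univ_three, Submodule.coe_add, Submodule.coe_add, Submodule.coe_smul, Submodule.coe_smul,
    Submodule.coe_smul, hb, hb, hb] at e
  exact e.symm

theorem exists_quad_factor [IsAlgClosed K] (A B C : K) : ∃ p q r w : K, p * r = A ∧ p * w + q * r = B ∧ q * w = C := by
  rcases eq_or_ne A 0 with rfl | hA
  · exact ⟨0, 1, B, C, by ring, by ring, by ring⟩
  · obtain ⟨z, hz⟩ := Cubic.exists_root_quadratic A B C hA
    exact ⟨1, -z, A, B + A * z, by ring, by ring, by linear_combination -hz⟩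

theorem exists_cubic_factor [IsAlgClosed K] (A B C D : K) :
    ∃ p q r w x y : K, ∀ s t : K,
      A * s ^ 3 + B * s ^ 2 * t + C * s * t ^ 2 + D * t ^ 3 = (p * s + q * t) * (r * s + w * t) * (x * s + y * t) := by
  obtain ⟨p, q, E, F, G', h1, h2, h3, h4⟩ : ∃ p q E F G' : K,
      p * E = A ∧ p * F + q * E = B ∧ p * G' + q * F = C ∧ q * G' = D := by
    rcases eq_or_ne A 0 with rfl | hA
    · exact ⟨0, 1, B, C, D, by ring, by ring, by ring, by ring⟩
    · let P : Polynomial K := Polynomial.C A * Polynomial.X ^ 3 + Polynomial.C B * Polynomial.X ^ 2 +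
        Polynomial.C C * Polynomial.X + Polynomial.C D
      have hd : P.degree = 3 := by simp only [P]; compute_degree!
      obtain ⟨z, hz⟩ := IsAlgClosed.exists_root P (by rw [hd]; decide)
      have hz' : A * z ^ 3 + B * z ^ 2 + C * z + D = 0 := by simpa [P] using hz
      exact ⟨1, -z, A, B + A * z, C + B * z + A * z ^ 2, by ring, by ring, by ring, by linear_combination -hz'⟩
  obtain ⟨r, w, x, y, k1, k2, k3⟩ := exists_quad_factor E F G'
  exact ⟨p, q, r, w, x, y, fun s t => by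
    rw [← h1, ← h2, ← h3, ← h4, ← k1, ← k2, ← k3]; ring⟩

section

variable [CharZero K]

theorem coeff_one {c₁ c₂ c₃ : K} (h : ∀ t : K, c₁ * t + c₂ * t ^ 2 + c₃ * t ^ 3 = 0) : c₁ = 0 := by
  have h1 := h 1
  have h2 := h (-1)
  have h3 := h 2
  have : 6 * c₁ = 0 := by linear_combination 6 * h1 - 2 * h2 - h3
  simpa using this

theorem line_le_tan {U : Submodule K (V K)} (hU : IsLine G U) {b : V K} (hb : b ∈ U) : U ≤ tan G b :=
  fun _ hu => mem_tan.2 (G.T_eq_zero_of_F hU.2 hb hb hu)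

variable [IsAlgClosed K]

/-- Through a T-point there are two lines, or one along which the tangent plane is constant. -/
theorem IsT.cases (hirr : Irr G) {b : V K} (hb : IsT G b) :
    ∃ U, IsLine G U ∧ b ∈ U ∧
      ((∃ U', IsLine G U' ∧ b ∈ U' ∧ U' ≠ U) ∨ ∀ u ∈ U, ∀ h ∈ tan G b, G.T u u h = 0) := by
  obtain ⟨hb0, hFb, hsm, l₁, l₂, l₃, hl⟩ := hb
  have hP3 := finrank_tan hsm
  have hbP := self_mem_tan hFb
  obtain ⟨u₀, hu₀, hu₀F⟩ := no_hyperplane hirr (tan G b) hP3
  obtain ⟨l₁, l₂, l₃, hl, h1, h2⟩ : ∃ l₁ l₂ l₃ : V K →ₗ[K] K,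
      (∀ h ∈ tan G b, G.F h = l₁ h * l₂ h * l₃ h) ∧ l₁ b = 0 ∧ l₂ b = 0 := by
    have key : ∀ l₁ l₂ l₃ : V K →ₗ[K] K, (∀ h ∈ tan G b, G.F h = l₁ h * l₂ h * l₃ h) → l₁ b = 0 →
        l₂ b = 0 ∨ l₃ b = 0 := by
      intro l₁ l₂ l₃ hl h1
      by_contra! hne
      have hz : ∀ h ∈ tan G b, l₁ h = 0 := fun h hh => by
        have := coeff_one (c₁ := l₁ h * l₂ b * l₃ b)
          (c₂ := l₁ h * (l₂ h * l₃ b + l₂ b * l₃ h) - 3 * G.T b h h) (c₃ := l₁ h * l₂ h * l₃ h - G.F h) fun t => by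
            have e := hl (b + t • h) (add_mem hbP (Submodule.smul_mem _ t hh))
            rw [G.F_add_smul, hFb, mem_tan.1 hh] at e
            simp only [map_add, map_smul, smul_eq_mul, h1] at e
            linear_combination -e
        simpa [hne.1, hne.2] using this
      exact hu₀F (by rw [hl u₀ hu₀, hz u₀ hu₀]; ring)
    have h0 := hl b hbP
    rw [hFb] at h0
    rcases mul_eq_zero.1 h0.symm with h' | h'
    · rcases mul_eq_zero.1 h' with h' | h'
      · rcases key l₁ l₂ l₃ hl h' with h'' | h''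
        · exact ⟨l₁, l₂, l₃, hl, h', h''⟩
        · exact ⟨l₁, l₃, l₂, fun h hh => by rw [hl h hh]; ring, h', h''⟩
      · rcases key l₂ l₁ l₃ (fun h hh => by rw [hl h hh]; ring) h' with h'' | h''
        · exact ⟨l₂, l₁, l₃, fun h hh => by rw [hl h hh]; ring, h', h''⟩
        · exact ⟨l₂, l₃, l₁, fun h hh => by rw [hl h hh]; ring, h', h''⟩
    · rcases key l₃ l₁ l₂ (fun h hh => by rw [hl h hh]; ring) h' with h'' | h''
      · exact ⟨l₃, l₁, l₂, fun h hh => by rw [hl h hh]; ring, h', h''⟩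
      · exact ⟨l₃, l₂, l₁, fun h hh => by rw [hl h hh]; ring, h', h''⟩
  have hdim : ∀ l : V K →ₗ[K] K, (∀ h ∈ tan G b, l h = 0 → G.F h = 0) →
      IsLine G (tan G b ⊓ LinearMap.ker l) := by
    intro l hl0
    refine ⟨?_, fun u hu => hl0 u hu.1 hu.2⟩
    have h1 := Submodule.finrank_sup_add_finrank_inf_eq (tan G b) (LinearMap.ker l)
    have h2 := Submodule.finrank_le (tan G b ⊔ LinearMap.ker l)
    have h3 := LinearMap.finrank_range_add_finrank_ker l
    have h4 := (Submodule.finrank_le (LinearMap.range l)).trans_eq (Module.finrank_self K)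
    have hlt : tan G b ⊓ LinearMap.ker l < tan G b :=
      lt_of_le_of_ne inf_le_left fun he => hu₀F (hl0 u₀ hu₀ (he.ge hu₀).2)
    have h5 := Submodule.finrank_lt_finrank_of_lt hlt
    rw [Module.finrank_fin_fun] at h2 h3
    omega
  have hL₁ := hdim l₁ fun h hh h0 => by rw [hl h hh, h0]; ring
  have hL₂ := hdim l₂ fun h hh h0 => by rw [hl h hh, h0]; ring
  refine ⟨_, hL₁, ⟨hbP, h1⟩, ?_⟩
  by_cases heq : tan G b ⊓ LinearMap.ker l₂ = tan G b ⊓ LinearMap.ker l₁
  · right
    intro u hu h hh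
    have hu2 : l₂ u = 0 := (heq.ge hu).2
    have hu1 : l₁ u = 0 := hu.2
    have := coeff_one (c₁ := 3 * G.T u u h) (c₂ := 3 * G.T u h h - l₁ h * l₂ h * l₃ u)
      (c₃ := G.F h - l₁ h * l₂ h * l₃ h) fun t => by
        have e := hl (u + t • h) (add_mem hu.1 (Submodule.smul_mem _ t hh))
        rw [G.F_add_smul, hL₁.2 u hu] at e
        simp only [map_add, map_smul, smul_eq_mul, hu1, hu2] at e
        linear_combination e
    simpa using this
  · exact Or.inl ⟨_, hL₂, ⟨hbP, h2⟩, heq⟩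

variable {a : V K}

/-- A line in the tangent plane at a point whose section is not a union of lines passes through the point. -/
theorem mem_of_line_le (hFa : G.F a = 0) (hsm : G.T a a ≠ 0) (hT : ¬ Union3 G (tan G a)) {U : Submodule K (V K)}
    (hU : IsLine G U) (hle : U ≤ tan G a) : a ∈ U := by
  by_contra ha
  obtain ⟨x, y, hx, hy, hli⟩ := exists_basis₂ hU.1
  have hli3 := li_three_of_notMem (z := a) hli fun h => ha (Submodule.span_le.2 (by
    rintro v (rfl | rfl) <;> assumption) h)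
  obtain ⟨φ₁, φ₂, φ₃, hφ⟩ := exists_mem_of_li hli3 (finrank_tan hsm) (self_mem_tan hFa) (hle hx) (hle hy)
  obtain ⟨p, q, r, w, e1, e2, e3⟩ := exists_quad_factor (3 * G.T a x x) (6 * G.T a x y) (3 * G.T a y y)
  refine hT ⟨φ₁, p • φ₂ + q • φ₃, r • φ₂ + w • φ₃, fun h hh => ?_⟩
  conv_lhs => rw [hφ h hh, G.F_comb₃]
  rw [hFa, hU.2 x hx, hU.2 y hy, mem_tan.1 (hle hx), mem_tan.1 (hle hy),
    G.T_eq_zero_of_F hU.2 hx hx hy, G.T_eq_zero_of_F hU.2 hx hy hy]
  simp only [LinearMap.add_apply, LinearMap.smul_apply, smul_eq_mul]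
  linear_combination (-φ₁ h * φ₂ h ^ 2) * e1 + (-φ₁ h * φ₂ h * φ₃ h) * e2 + (-φ₁ h * φ₃ h ^ 2) * e3

/-- There is at most one line in such a tangent plane. -/
theorem line_unique (ha0 : a ≠ 0) (hFa : G.F a = 0) (hsm : G.T a a ≠ 0) (hT : ¬ Union3 G (tan G a))
    {U U' : Submodule K (V K)} (hU : IsLine G U) (hU' : IsLine G U') (hle : U ≤ tan G a) (hle' : U' ≤ tan G a) :
    U = U' := by
  by_contra hne
  have ha := mem_of_line_le hFa hsm hT hU hle
  have ha' := mem_of_line_le hFa hsm hT hU' hle'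
  obtain ⟨x, hx, hxa⟩ := exists_mem_notMem hU.1 a
  obtain ⟨y, hy, hya⟩ := exists_mem_notMem hU'.1 a
  have hyn : y ∉ Submodule.span K {a, x} := fun h => hne <| by
    have h1 : U' = line a y := eq_line ha' hy hU'.1 (li_pair_of_notMem ha0 hya)
    refine (Submodule.eq_of_le_of_finrank_eq ?_ (by rw [hU.1, hU'.1])).symm
    rw [h1]
    have hxy : Submodule.span K {a, x} ≤ U := Submodule.span_le.2 (by rintro v (rfl | rfl) <;> assumption)
    exact Submodule.span_le.2 (by rintro v (rfl | rfl); exacts [ha, hxy h])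
  have hli3 := li_three_of_notMem (li_pair_of_notMem ha0 hxa) hyn
  obtain ⟨φ₁, φ₂, φ₃, hφ⟩ := exists_mem_of_li hli3 (finrank_tan hsm) (hle' hy) (self_mem_tan hFa) (hle hx)
  refine hT ⟨φ₁, φ₃, (6 * G.T y a x) • φ₂ + (3 * G.T y x x) • φ₃ + (3 * G.T y y x) • φ₁, fun h hh => ?_⟩
  conv_lhs => rw [hφ h hh, G.F_comb₃]
  rw [hFa, hU.2 x hx, hU'.2 y hy, mem_tan.1 (hle hx), G.T_eq_zero_of_F hU.2 ha hx hx,
    G.T_eq_zero_of_F hU'.2 hy hy ha', G.T_eq_zero_of_F hU'.2 hy ha' ha']
  simp only [LinearMap.add_apply, LinearMap.smul_apply, smul_eq_mul]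
  ring

/-- A line is not double in such a tangent plane. -/
theorem not_double (hsm : G.T a a ≠ 0) (hT : ¬ Union3 G (tan G a)) {U : Submodule K (V K)} (hU : IsLine G U)
    (hle : U ≤ tan G a) : ¬ ∀ u ∈ U, ∀ h ∈ tan G a, G.T u u h = 0 := by
  intro hd
  obtain ⟨x, y, hx, hy, hli⟩ := exists_basis₂ hU.1
  obtain ⟨z, hz, hzn⟩ : ∃ z ∈ tan G a, z ∉ Submodule.span K {x, y} := by
    by_contra! h
    have h1 := Submodule.finrank_mono (show tan G a ≤ Submodule.span K {x, y} from h)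
    rw [finrank_tan hsm, finrank_span_pair_li hli] at h1
    omega
  obtain ⟨φ₁, φ₂, φ₃, hφ⟩ := exists_mem_of_li (li_three_of_notMem hli hzn) (finrank_tan hsm) hz (hle hx) (hle hy)
  refine hT ⟨φ₁, φ₁, G.F z • φ₁ + (3 * G.T z z x) • φ₂ + (3 * G.T z z y) • φ₃, fun h hh => ?_⟩
  conv_lhs => rw [hφ h hh, G.F_comb₃]
  have e1 := hd x hx z hz
  have e2 := hd y hy z hz
  have e3 := hd (x + y) (add_mem hx hy) z hz
  simp only [map_add, LinearMap.add_apply] at e3
  rw [e1, e2, G.symm₁₂ y x z] at e3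
  have e4 : G.T z x y = 0 := by
    rw [G.symm₁₂ z x y, G.symm₂₃ x z y]
    have : 2 * G.T x y z = 0 := by linear_combination e3
    simpa using this
  rw [show G.T z x x = 0 by rw [G.symm₁₃ z x x]; exact e1, show G.T z y y = 0 by rw [G.symm₁₃ z y y]; exact e2,
    e4, hU.2 x hx, hU.2 y hy, G.T_eq_zero_of_F hU.2 hx hx hy, G.T_eq_zero_of_F hU.2 hx hy hy]
  simp only [LinearMap.add_apply, LinearMap.smul_apply, smul_eq_mul]
  ring

end

end Groth.Agent.Cubic70
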