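import Groth.Agent.Cubic70.RegularLines

/-!
# Singular points, lines and double lines
-/

universe u

namespace Groth.Agent.Cubic70

open Module CubicLib

variable {K : Type u} [Field K] [IsAlgClosed K] [CharZero K] {G : Cubic K (V K)}

/-- A singular line. -/
def IsSingLine (G : Cubic K (V K)) (D : Submodule K (V K)) : Prop := finrank K D = 2 ∧ ∀ d ∈ D, G.T d d = 0

omit [IsAlgClosed K] in
theorem sing_polar {D : Submodule K (V K)} (hD : ∀ d ∈ D, G.T d d = 0) {d e : V K} (hd : d ∈ D) (he : e ∈ D)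
    (x : V K) : G.T d e x = 0 := by
  have h1 := LinearMap.congr_fun (hD (d + e) (add_mem hd he)) x
  simp only [map_add, LinearMap.add_apply, LinearMap.congr_fun (hD d hd) x, LinearMap.congr_fun (hD e he) x,
    LinearMap.zero_apply] at h1
  rw [G.symm₁₂ e d x] at h1
  have : 2 * G.T d e x = 0 := by linear_combination h1
  simpa using this

omit [IsAlgClosed K] in
theorem two_false (hno : ¬ ∃ D, IsSingLine G D) {x y : V K} (hli : LinearIndependent K ![x, y])
    (hx : G.T x x = 0) (hy : G.T y y = 0) {s t : K} (hs : s ≠ 0) (ht : t ≠ 0)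
    (h : G.T (s • x + t • y) (s • x + t • y) = 0) : False := by
  have hx' : ∀ z, G.T x x z = 0 := fun z => by rw [hx]; rfl
  have hy' : ∀ z, G.T y y z = 0 := fun z => by rw [hy]; rfl
  have hpol : ∀ z, G.T x y z = 0 := fun z => by
    have h' := LinearMap.congr_fun h z
    simp only [map_add, map_smul, LinearMap.add_apply, LinearMap.smul_apply, smul_eq_mul, hx', hy',
      LinearMap.zero_apply, G.symm₁₂ y x z] at h'
    have : 2 * s * t * G.T x y z = 0 := by linear_combination h'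
    simpa [hs, ht] using this
  refine hno ⟨Submodule.span K {x, y}, finrank_span_pair_li hli, fun d hd => ?_⟩
  obtain ⟨a, b, rfl⟩ := Submodule.mem_span_pair.1 hd
  ext z
  simp [hx', hy', hpol, G.symm₁₂ y x]

theorem three_false (hirr : Irr G) (hno : ¬ ∃ D, IsSingLine G D) {e : Fin 3 → V K} (he : LinearIndependent K e)
    (hs : ∀ i, G.T (e i) (e i) = 0) (c : Fin 3 → K) (hcon : ∀ i, ∀ t : K, ∑ j, c j • e j ≠ t • e i)
    (hp : G.T (∑ j, c j • e j) (∑ j, c j • e j) = 0) : False := by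
  have hpair : ∀ i j : Fin 3, i ≠ j → LinearIndependent K ![e i, e j] := fun i j hij => by
    rw [show ![e i, e j] = e ∘ ![i, j] from by funext a; fin_cases a <;> rfl]
    exact he.comp _ fun a b h => by fin_cases a <;> fin_cases b <;> simp_all
  rw [Fin.sum_univ_three] at hcon hp
  rcases eq_or_ne (c 0) 0 with h | h0
  · rw [h, zero_smul, zero_add] at hp hcon
    rcases eq_or_ne (c 1) 0 with h | h1
    · exact hcon 2 (c 2) (by simp [h])
    rcases eq_or_ne (c 2) 0 with h | h2
    · exact hcon 1 (c 1) (by simp [h])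
    exact two_false hno (hpair 1 2 (by decide)) (hs 1) (hs 2) h1 h2 hp
  rcases eq_or_ne (c 1) 0 with h | h1
  · rw [h, zero_smul, add_zero] at hp hcon
    rcases eq_or_ne (c 2) 0 with h | h2
    · exact hcon 0 (c 0) (by simp [h])
    exact two_false hno (hpair 0 2 (by decide)) (hs 0) (hs 2) h0 h2 hp
  rcases eq_or_ne (c 2) 0 with h | h2
  · rw [h, zero_smul, add_zero] at hp hcon
    exact two_false hno (hpair 0 1 (by decide)) (hs 0) (hs 1) h0 h1 hp
  have hz : ∀ i x, G.T (e i) (e i) x = 0 := fun i x => by rw [hs i]; rfl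
  have hz₁ : ∀ i j, G.T (e i) (e j) (e i) = 0 := fun i j => by rw [G.symm₂₃, hz]
  have hz₂ : ∀ i j, G.T (e i) (e j) (e j) = 0 := fun i j => by rw [G.symm₁₂, G.symm₂₃, hz]
  have key : ∀ i j k, G.T (e j) (e i) (e k) = G.T (e i) (e j) (e k) := fun i j k => G.symm₁₂ _ _ _
  have key' : ∀ i j k, G.T (e i) (e k) (e j) = G.T (e i) (e j) (e k) := fun i j k => G.symm₂₃ _ _ _
  have ht : G.T (e 0) (e 1) (e 2) = 0 := by
    have h := LinearMap.congr_fun hp (e 0)
    simp only [map_add, map_smul, LinearMap.add_apply, LinearMap.smul_apply, smul_eq_mul, hz, hz₁, hz₂,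
      LinearMap.zero_apply, mul_zero, add_zero, zero_add, key 0 1, key 0 2, key 1 2, key' _ 0 1, key' _ 0 2,
      key' _ 1 2] at h
    have : 2 * c 1 * c 2 * G.T (e 0) (e 1) (e 2) = 0 := by linear_combination h
    simpa [h1, h2] using this
  obtain ⟨u, hu, hFu⟩ := no_hyperplane hirr (Submodule.span K (Set.range e))
    (by rw [finrank_span_eq_card he, Fintype.card_fin])
  obtain ⟨d, rfl⟩ := (Submodule.mem_span_range_iff_exists_fun K).1 hu
  refine hFu ?_
  have hF : ∀ i, G.F (e i) = 0 := fun i => hz i (e i)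
  rw [Fin.sum_univ_three, G.F_comb₃, hF, hF, hF, hz, hz, hz, hz₂, hz₂, hz₂, ht]
  ring

theorem four_false (hirr : Irr G) (hno : ¬ ∃ D, IsSingLine G D) {e : Fin 4 → V K} (he : LinearIndependent K e)
    (hs : ∀ i, G.T (e i) (e i) = 0) (c : Fin 4 → K) (hcon : ∀ i, ∀ t : K, ∑ j, c j • e j ≠ t • e i)
    (hp : G.T (∑ j, c j • e j) (∑ j, c j • e j) = 0) : False := by
  by_cases hc : ∃ l, c l = 0
  · obtain ⟨l, hl⟩ := hc
    rw [Fin.sum_univ_succAbove _ l, hl, zero_smul, zero_add] at hcon hp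
    exact three_false hirr hno (he.comp _ Fin.succAbove_right_injective) (fun i => hs _) (c ∘ l.succAbove)
      (fun i => hcon _) hp
  push Not at hc
  have hz : ∀ i x, G.T (e i) (e i) x = 0 := fun i x => by rw [hs i]; rfl
  have hz₁ : ∀ i j, G.T (e i) (e j) (e i) = 0 := fun i j => by rw [G.symm₂₃, hz]
  have hz₂ : ∀ i j, G.T (e i) (e j) (e j) = 0 := fun i j => by rw [G.symm₁₂, G.symm₂₃, hz]
  have key : ∀ i j k, G.T (e j) (e i) (e k) = G.T (e i) (e j) (e k) := fun i j k => G.symm₁₂ _ _ _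
  have key' : ∀ i j k, G.T (e i) (e k) (e j) = G.T (e i) (e j) (e k) := fun i j k => G.symm₂₃ _ _ _
  let m : Fin 4 → K := ![G.T (e 1) (e 2) (e 3), G.T (e 0) (e 2) (e 3), G.T (e 0) (e 1) (e 3), G.T (e 0) (e 1) (e 2)]
  have h0 := LinearMap.congr_fun hp (e 0)
  have h1 := LinearMap.congr_fun hp (e 1)
  have h2 := LinearMap.congr_fun hp (e 2)
  have h3 := LinearMap.congr_fun hp (e 3)
  simp only [Fin.sum_univ_four, map_add, map_smul, LinearMap.add_apply, LinearMap.smul_apply, smul_eq_mul, hz, hz₁,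
    hz₂, LinearMap.zero_apply, mul_zero, add_zero, zero_add, key 0 1, key 0 2, key 0 3, key 1 2, key 1 3, key 2 3,
    key' _ 0 1, key' _ 0 2, key' _ 0 3, key' _ 1 2, key' _ 1 3, key' _ 2 3] at h0 h1 h2 h3
  have hm : m 0 = 0 ∧ m 1 = 0 ∧ m 2 = 0 ∧ m 3 = 0 := by
    have a0 : c 0 * c 1 * c 2 * m 3 + c 0 * c 1 * c 3 * m 2 + c 0 * c 2 * c 3 * m 1 = 0 := by
      simp only [m, Matrix.cons_val_zero, Matrix.cons_val_one, Matrix.cons_val]; linear_combination (c 0 / 2) * h0
    have a1 : c 0 * c 1 * c 2 * m 3 + c 0 * c 1 * c 3 * m 2 + c 1 * c 2 * c 3 * m 0 = 0 := by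
      simp only [m, Matrix.cons_val_zero, Matrix.cons_val_one, Matrix.cons_val]; linear_combination (c 1 / 2) * h1
    have a2 : c 0 * c 1 * c 2 * m 3 + c 0 * c 2 * c 3 * m 1 + c 1 * c 2 * c 3 * m 0 = 0 := by
      simp only [m, Matrix.cons_val_zero, Matrix.cons_val_one, Matrix.cons_val]; linear_combination (c 2 / 2) * h2
    have a3 : c 0 * c 1 * c 3 * m 2 + c 0 * c 2 * c 3 * m 1 + c 1 * c 2 * c 3 * m 0 = 0 := by
      simp only [m, Matrix.cons_val_zero, Matrix.cons_val_one, Matrix.cons_val]; linear_combination (c 3 / 2) * h3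
    have b0 : 3 * (c 1 * c 2 * c 3) * m 0 = 0 := by linear_combination a1 + a2 + a3 - 2 * a0
    have b1 : 3 * (c 0 * c 2 * c 3) * m 1 = 0 := by linear_combination a0 + a2 + a3 - 2 * a1
    have b2 : 3 * (c 0 * c 1 * c 3) * m 2 = 0 := by linear_combination a0 + a1 + a3 - 2 * a2
    have b3 : 3 * (c 0 * c 1 * c 2) * m 3 = 0 := by linear_combination a0 + a1 + a2 - 2 * a3
    simp only [mul_eq_zero, hc, or_self, false_or, three_ne_zero] at b0 b1 b2 b3
    exact ⟨b0, b1, b2, b3⟩
  obtain ⟨m0, m1, m2, m3⟩ := hm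
  simp only [m, Matrix.cons_val_zero, Matrix.cons_val_one, Matrix.cons_val] at m0 m1 m2 m3
  let b : Basis (Fin 4) K (V K) := basisOfLinearIndependentOfCardEqFinrank he (by simp)
  have hT : G.T = 0 := by
    refine b.ext fun i => b.ext fun j => b.ext fun k => ?_
    simp only [b, coe_basisOfLinearIndependentOfCardEqFinrank, LinearMap.zero_apply]
    fin_cases i <;> fin_cases j <;> fin_cases k <;>
      simp [hz, hz₁, hz₂, m0, m1, m2, m3, key 0 1, key 0 2, key 0 3, key 1 2, key 1 3, key 2 3,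
        key' _ 0 1, key' _ 0 2, key' _ 0 3, key' _ 1 2, key' _ 1 3, key' _ 2 3]
  exact hirr 0 0 fun v => by simp [Cubic.F, hT]

/-- At most four singular points, unless a line is singular. -/
theorem exists_sing_basis (hirr : Irr G) (hno : ¬ ∃ D, IsSingLine G D) :
    ∃ s : Finset (V K), ∀ b, b ≠ 0 → G.T b b = 0 → ∃ e ∈ s, b ∈ Submodule.span K {e} := by
  classical
  let S : Set (V K) := {b | b ≠ 0 ∧ G.T b b = 0}
  obtain ⟨B, hBS, hBspan, hBli⟩ := exists_linearIndependent K S
  have hBfin : B.Finite := hBli.setFinite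
  refine ⟨hBfin.toFinset, fun b hb hbb => ?_⟩
  by_contra hcon
  push Not at hcon
  have hbB : b ∈ Submodule.span K B := hBspan.ge (Submodule.subset_span ⟨hb, hbb⟩)
  have : Fintype B := hBfin.fintype
  have hcard : Fintype.card B ≤ 4 := hBli.fintype_card_le_finrank.trans_eq (Module.finrank_fin_fun K)
  let ε := (Fintype.equivFin B).symm
  let e : Fin (Fintype.card B) → V K := fun i => (ε i : V K)
  have he : LinearIndependent K e := hBli.comp ε ε.injective
  have hes : ∀ i, e i ∈ S := fun i => hBS (ε i).2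
  have hrange : Set.range e = B := by
    ext x
    constructor
    · rintro ⟨i, rfl⟩; exact (ε i).2
    · intro hx; exact ⟨ε.symm ⟨x, hx⟩, by simp [e]⟩
  rw [← hrange] at hbB
  obtain ⟨c, rfl⟩ := (Submodule.mem_span_range_iff_exists_fun K).1 hbB
  have hcon' : ∀ i, ∀ t : K, ∑ j, c j • e j ≠ t • e i := fun i t h =>
    hcon (e i) (hBfin.mem_toFinset.2 (ε i).2) (Submodule.mem_span_singleton.2 ⟨t, h.symm⟩)
  clear hcon hbB hrange hBspan hBfin
  have hz : ∀ i, G.T (e i) (e i) = 0 := fun i => (hes i).2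
  clear_value e
  clear hBli ε
  generalize Fintype.card B = n at *
  interval_cases n
  · simp at hb
  · exact hcon' 0 (c 0) (by simp)
  · rw [Fin.sum_univ_two] at hb hbb hcon'
    rcases eq_or_ne (c 0) 0 with h | h
    · exact hcon' 1 (c 1) (by simp [h])
    rcases eq_or_ne (c 1) 0 with h' | h'
    · exact hcon' 0 (c 0) (by simp [h'])
    refine two_false hno ?_ (hz 0) (hz 1) h h' hbb
    rwa [show ![e 0, e 1] = e from by funext a; fin_cases a <;> rfl]
  · exact three_false hirr hno he hz c hcon' hbb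
  · exact four_false hirr hno he hz c hcon' hbb

/-- Without a singular line there are finitely many lines. -/
theorem finite_lines (hirr : Irr G) (hcone : NoCone G) (f : MvPolynomial (Fin 4) K)
    (hG : ∀ v, MvPolynomial.eval v f = G.F v)
    (hG' : ∀ v i, MvPolynomial.eval v (MvPolynomial.pderiv i f) = 3 * G.T v v (Pi.single i 1))
    (hno : ¬ ∃ D, IsSingLine G D) : {U | IsLine G U}.Finite := by
  obtain ⟨s, hs⟩ := exists_sing_basis hirr hno
  refine ((finite_regular_lines f hG hG').union ((s.finite_toSet.subset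
    (show {e : V K | e ∈ s ∧ e ≠ 0 ∧ G.T e e = 0} ⊆ s from fun e he => he.1)).biUnion fun e he =>
      Set.finite_of_encard_le_coe (lines_singular hirr he.2.1 (fun w => by rw [he.2.2]; rfl) (hcone e he.2.1)))).subset ?_
  intro U hU
  by_cases hreg : ∀ u ∈ U, u ≠ 0 → G.T u u ≠ 0
  · exact Or.inl ⟨hU, hreg⟩
  push Not at hreg
  obtain ⟨u, huU, hu0, hu⟩ := hreg
  obtain ⟨e, hes, hue⟩ := hs u hu0 hu
  obtain ⟨a, rfl⟩ := Submodule.mem_span_singleton.1 hue
  have ha : a ≠ 0 := fun h => hu0 (by simp [h])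
  refine Or.inr (Set.mem_biUnion (x := e) ⟨hes, fun h => hu0 (by simp [h]), ?_⟩ ⟨?_, hU.1, hU.2⟩)
  · refine LinearMap.ext fun w => ?_
    have := LinearMap.congr_fun hu w
    simpa [ha] using this
  · exact (U.smul_mem_iff ha).1 huU

section Double

variable {D : Submodule K (V K)}

omit [IsAlgClosed K] in
theorem F_add_sing (hD : IsSingLine G D) (v : V K) {d : V K} (hd : d ∈ D) :
    G.F (v + d) = G.F v + 3 * G.T v v d := by
  have h := G.F_add_smul v d 1
  rw [one_smul, show G.F d = 0 from (LinearMap.congr_fun (hD.2 d hd) d), G.symm₁₂ v d d, G.symm₂₃ d v d,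
    sing_polar hD.2 hd hd v] at h
  rw [h]; ring

/-- The polar form of a smooth point does not vanish on a singular line. -/
theorem exists_polar_ne (hirr : Irr G) (hD : IsSingLine G D) {b : V K} (hb : b ∉ D) (hFb : G.F b = 0) :
    ∃ d ∈ D, G.T b b d ≠ 0 := by
  by_contra! h
  obtain ⟨x, y, hx, hy, hli⟩ := exists_basis₂ hD.1
  have hli3 : LinearIndependent K ![b, x, y] := li_three_of_notMem hli fun hm => hb (Submodule.span_le.2 (by
    rintro v (rfl | rfl) <;> assumption) hm)
  obtain ⟨u, hu, hFu⟩ := no_hyperplane hirr (Submodule.span K (Set.range ![b, x, y]))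
    (by rw [finrank_span_eq_card hli3, Fintype.card_fin])
  obtain ⟨c, rfl⟩ := (Submodule.mem_span_range_iff_exists_fun K).1 hu
  refine hFu ?_
  simp only [Fin.sum_univ_three, Matrix.cons_val_zero, Matrix.cons_val_one, Matrix.cons_val]
  rw [add_assoc, F_add_sing hD _ (add_mem (D.smul_mem _ hx) (D.smul_mem _ hy)), G.F_smul, hFb]
  simp only [map_add, map_smul, LinearMap.smul_apply, smul_eq_mul, h x hx, h y hy]
  ring

/-- On a singular line the polar form of a smooth point has a one-dimensional kernel. -/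
theorem mem_span_of_polar (hirr : Irr G) (hD : IsSingLine G D) {b : V K} (hb : b ∉ D) (hFb : G.F b = 0)
    {g h : V K} (hg : g ∈ D) (hg0 : g ≠ 0) (hh : h ∈ D) (hbg : G.T b b g = 0) (hbh : G.T b b h = 0) :
    h ∈ Submodule.span K {g} := by
  by_contra hn
  obtain ⟨d, hd, hne⟩ := exists_polar_ne hirr hD hb hFb
  obtain ⟨u, v, rfl⟩ := exists_smul_add hD.1 hg hh (li_pair_of_notMem hg0 hn) hd
  exact hne (by simp [hbg, hbh])

/-- The line through a smooth point meeting a singular line is unique. -/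
theorem ruling_unique (hirr : Irr G) (hD : IsSingLine G D) {b : V K} (hb : b ∉ D)
    {U U' : Submodule K (V K)} (hU : IsLine G U) (hU' : IsLine G U') (hbU : b ∈ U) (hbU' : b ∈ U')
    {e e' : V K} (he : e ∈ D) (he0 : e ≠ 0) (heU : e ∈ U) (he' : e' ∈ D) (he'0 : e' ≠ 0) (he'U : e' ∈ U') : U = U' := by
  have hb0 : b ≠ 0 := fun h => hb (h ▸ zero_mem _)
  have hli : ∀ z ∈ D, z ≠ 0 → LinearIndependent K ![b, z] := fun z hz hz0 =>
    (LinearIndependent.pair_iff' hb0).2 fun c hc => by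
      rcases eq_or_ne c 0 with rfl | hc0
      · simp at hc; exact hz0 hc.symm
      · exact hb ((D.smul_mem_iff hc0).1 (hc ▸ hz))
  obtain ⟨c, rfl⟩ := Submodule.mem_span_singleton.1 (mem_span_of_polar hirr hD hb (hU.2 b hbU) he he0 he'
    (G.T_eq_zero_of_F hU.2 hbU hbU heU) (G.T_eq_zero_of_F hU'.2 hbU' hbU' he'U))
  have hc : c ≠ 0 := fun h => he'0 (by simp [h])
  rw [eq_line hbU heU hU.1 (hli e he he0), eq_line hbU' ((U'.smul_mem_iff hc).1 he'U) hU'.1 (hli e he he0)]

omit [IsAlgClosed K] in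
theorem exists_meet {D U : Submodule K (V K)} (h : ¬ Disjoint U D) : ∃ e ∈ D, e ≠ 0 ∧ e ∈ U := by
  rw [disjoint_iff, Submodule.eq_bot_iff] at h
  push Not at h
  obtain ⟨e, he, he0⟩ := h
  exact ⟨e, he.2, he0, he.1⟩

/-- At most one line is disjoint from a singular line. -/
theorem skew_unique (hirr : Irr G) (hD : IsSingLine G D) {U U' : Submodule K (V K)} (hU : IsLine G U)
    (hU' : IsLine G U') (hdU : Disjoint U D) (hdU' : Disjoint U' D) : U = U' := by
  obtain ⟨x, y, hx, hy, hli⟩ := exists_basis₂ hU.1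
  have hc : IsCompl U' D := by
    refine ⟨hdU', codisjoint_iff.2 (Submodule.eq_top_of_finrank_eq ?_)⟩
    have := Submodule.finrank_sup_add_finrank_inf_eq U' D
    rw [hdU'.eq_bot, finrank_bot, hU'.1, hD.1] at this
    simp only [Module.finrank_fin_fun]
    omega
  have hdec : ∀ u : V K, ∃ n ∈ D, u - n ∈ U' := fun u => by
    obtain ⟨v, hv, n, hn, rfl⟩ := Submodule.mem_sup.1 (hc.sup_eq_top.ge (Submodule.mem_top (x := u)))
    exact ⟨n, hn, by simpa using hv⟩
  obtain ⟨nx, hnx, hx'⟩ := hdec x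
  obtain ⟨ny, hny, hy'⟩ := hdec y
  obtain ⟨d₁, d₂, hd₁, hd₂, hlid⟩ := exists_basis₂ hD.1
  obtain ⟨p, q, hpq⟩ := exists_smul_add hD.1 hd₁ hd₂ hlid hnx
  obtain ⟨r, w, hrw⟩ := exists_smul_add hD.1 hd₁ hd₂ hlid hny
  let A : V K → K → K → K := fun d s t => G.T x x d * s ^ 2 + 2 * G.T x y d * s * t + G.T y y d * t ^ 2
  have hA : ∀ d s t, G.T (s • x + t • y) (s • x + t • y) d = A d s t := fun d s t => by
    simp only [A, map_add, map_smul, LinearMap.add_apply, LinearMap.smul_apply, smul_eq_mul]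
    rw [G.symm₁₂ y x d]
    ring
  have hAB : ∀ s t : K, A d₁ s t = 0 → A d₂ s t = 0 → s = 0 ∧ t = 0 := fun s t h1 h2 => by
    by_contra hne
    have hz : s • x + t • y ∉ D := fun h => hne ((LinearIndependent.pair_iff.1 hli) s t
      ((Submodule.disjoint_def.1 hdU) _ (add_mem (U.smul_mem _ hx) (U.smul_mem _ hy)) h))
    obtain ⟨d, hd, hdne⟩ := exists_polar_ne hirr hD hz (hU.2 _ (add_mem (U.smul_mem _ hx) (U.smul_mem _ hy)))
    obtain ⟨a, b, rfl⟩ := exists_smul_add hD.1 hd₁ hd₂ hlid hd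
    refine hdne ?_
    rw [map_add, map_smul, map_smul, hA, hA, h1, h2]
    simp
  -- the difference is killed
  have hid : ∀ s t : K, (p * s + r * t) * A d₁ s t + (q * s + w * t) * A d₂ s t = 0 := fun s t => by
    have h1 := hU'.2 _ (add_mem (U'.smul_mem s hx') (U'.smul_mem t hy'))
    have e : s • (x - nx) + t • (y - ny) = (s • x + t • y) + (-(s • nx) + -(t • ny)) := by module
    rw [e, F_add_sing hD _ (add_mem (neg_mem (D.smul_mem _ hnx)) (neg_mem (D.smul_mem _ hny))),
      hU.2 _ (add_mem (U.smul_mem _ hx) (U.smul_mem _ hy)), hpq, hrw] at h1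
    generalize hv : s • x + t • y = v at h1
    simp only [map_add, map_neg, map_smul, smul_eq_mul] at h1
    subst hv
    rw [hA, hA] at h1
    linear_combination -(1 / 3 : K) * h1
  simp only [A] at hid
  have e0 := hid 1 0
  have e1 := hid 0 1
  have e2 := hid 1 1
  have e3 := hid 1 (-1)
  obtain ⟨rfl, rfl, rfl, rfl⟩ := binary_inj (l₀ := p) (l₁ := r) (m₀ := q) (m₁ := w) hAB (by linear_combination e0)
    (by linear_combination (1 / 2 : K) * e2 - (1 / 2 : K) * e3 - e1)
    (by linear_combination (1 / 2 : K) * e2 + (1 / 2 : K) * e3 - e0) (by linear_combination e1)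
  simp only [hpq, hrw, zero_smul, add_zero, sub_zero] at hx' hy'
  rw [eq_line hx hy hU.1 hli, eq_line hx' hy' hU'.1 hli]

/-- Lines along which a cubic with a singular line has a constant tangent plane. -/
def torsal (G : Cubic K (V K)) (D : Submodule K (V K)) : Set (Submodule K (V K)) :=
  {U | IsLine G U ∧ ∃ b ∈ U, b ∉ D ∧ ∃ e ∈ D, e ≠ 0 ∧ e ∈ U ∧ G.T b e = 0}

theorem finite_torsal (hirr : Irr G) (hcone : NoCone G) (hD : IsSingLine G D) : (torsal G D).Finite := by
  obtain ⟨d₁, d₂, hd₁, hd₂, hlid⟩ := exists_basis₂ hD.1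
  obtain ⟨W, hW⟩ := Submodule.exists_isCompl D
  have hWdim : finrank K W = 2 := by
    have h := Submodule.finrank_add_eq_of_isCompl hW
    rw [hD.1, Module.finrank_fin_fun] at h
    omega
  obtain ⟨x, y, hx, hy, hli⟩ := exists_basis₂ hWdim
  -- determinant of `d ↦ T(v, d, ·)` in the coordinates
  let a := G.T x x d₁
  let b := G.T x y d₁
  let c := G.T y y d₁
  let a' := G.T x x d₂
  let b' := G.T x y d₂
  let c' := G.T y y d₂
  have hnd : a * b' - b * a' ≠ 0 ∨ a * c' - c * a' ≠ 0 ∨ b * c' - c * b' ≠ 0 := by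
    by_contra! h
    obtain ⟨m1, m2, m3⟩ := h
    obtain ⟨l₁, l₂, hl, k1, k2, k3⟩ : ∃ l₁ l₂ : K, (l₁ ≠ 0 ∨ l₂ ≠ 0) ∧
        l₁ * a + l₂ * a' = 0 ∧ l₁ * b + l₂ * b' = 0 ∧ l₁ * c + l₂ * c' = 0 := by
      by_cases ha : a = 0 ∧ a' = 0
      · by_cases hb : b = 0 ∧ b' = 0
        · by_cases hc : c = 0 ∧ c' = 0
          · exact ⟨1, 0, Or.inl one_ne_zero, by simp [ha.1], by simp [hb.1], by simp [hc.1]⟩
          · exact ⟨c', -c, by rw [neg_ne_zero]; tauto, by simp [ha.1, ha.2], by simp [hb.1, hb.2], by ring⟩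
        · exact ⟨b', -b, by rw [neg_ne_zero]; tauto, by simp [ha.1, ha.2], by ring, by linear_combination -m3⟩
      · exact ⟨a', -a, by rw [neg_ne_zero]; tauto, by ring, by linear_combination -m1, by linear_combination -m2⟩
    let e := l₁ • d₁ + l₂ • d₂
    have he : e ∈ D := add_mem (D.smul_mem _ hd₁) (D.smul_mem _ hd₂)
    refine hcone e (fun h0 => ?_) ?_
    · obtain ⟨rfl, rfl⟩ := (LinearIndependent.pair_iff.1 hlid) l₁ l₂ h0
      simp at hl
    have hexp : ∀ u v, G.T u v e = l₁ * G.T u v d₁ + l₂ * G.T u v d₂ := fun u v => by simp [e]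
    clear_value e
    have hdec : ∀ u, ∃ du ∈ D, ∃ s t : K, u = du + (s • x + t • y) := fun u => by
      obtain ⟨du, hdu, wu, hwu, rfl⟩ := Submodule.mem_sup.1 (hW.sup_eq_top.ge (Submodule.mem_top (x := u)))
      obtain ⟨s, t, rfl⟩ := exists_smul_add hWdim hx hy hli hwu
      exact ⟨du, hdu, s, t, rfl⟩
    have hxy : G.T e x = 0 ∧ G.T e y = 0 := by
      constructor <;>
      · refine LinearMap.ext fun v => ?_
        obtain ⟨dv, hdv, s, t, rfl⟩ := hdec v
        rw [map_add, map_add, map_smul, map_smul, G.symm₂₃ e _ dv, sing_polar hD.2 he hdv, G.symm₁₃ e _ x,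
          G.symm₁₃ e _ y]
        simp only [hexp, G.symm₁₂ y x, smul_eq_mul, LinearMap.zero_apply]
        first | linear_combination s * k1 + t * k2 | linear_combination s * k2 + t * k3
    refine LinearMap.ext fun u => ?_
    obtain ⟨du, hdu, s, t, rfl⟩ := hdec u
    rw [map_add, map_add, map_smul, map_smul, hxy.1, hxy.2,
      show G.T e du = 0 from LinearMap.ext fun v => sing_polar hD.2 he hdu v]
    simp
  obtain ⟨P, Q, R, S, f1, f2, f3⟩ := exists_quad_factor (a * b' - b * a') (a * c' - c * a') (b * c' - c * b')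
  let cand : V K → Set (Submodule K (V K)) := fun z => {U | IsLine G U ∧ ∃ b ∈ U, b ∉ D ∧
    (∃ k : K, ∃ d ∈ D, b = k • z + d) ∧ ∃ e ∈ D, e ≠ 0 ∧ e ∈ U}
  have hcand : ∀ z, (cand z).Subsingleton := by
    rintro z U ⟨hU, b, hbU, hb, ⟨k, d, hd, rfl⟩, e, he, he0, heU⟩ U' ⟨hU', b', hb'U, hb', ⟨k', d', hd', rfl⟩, e', he', he'0, he'U⟩
    have hk : k ≠ 0 := fun h => hb (by simpa [h] using hd)
    have hk' : k' ≠ 0 := fun h => hb' (by simpa [h] using hd')
    have hzD : z ∉ D := fun h => hb (add_mem (D.smul_mem _ h) hd)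
    have hb'z : ∀ w, G.T (k • z + d) (k • z + d) w = k ^ 2 * G.T z z w + 2 * k * G.T z d w := fun w => by
      simp only [map_add, map_smul, LinearMap.add_apply, LinearMap.smul_apply, smul_eq_mul, sing_polar hD.2 hd hd,
        G.symm₁₂ d z]
      ring
    -- the common point
    let b₁ := (k' / k) • (k • z + d)
    have hb₁ : b₁ = k' • z + (k' / k) • d := by simp [b₁, smul_add, smul_smul, div_mul_cancel₀ _ hk]
    have hb₁U : b₁ ∈ U := U.smul_mem _ hbU
    have hF := hU.2 _ hb₁U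
    rw [hb₁, F_add_sing hD _ (D.smul_mem _ hd)] at hF
    have hF' := hU'.2 _ hb'U
    rw [F_add_sing hD _ hd'] at hF'
    have hdiff : G.T (k' • z) (k' • z) (d' - (k' / k) • d) = 0 := by
      rw [map_sub]
      linear_combination (1 / 3 : K) * hF' - (1 / 3 : K) * hF
    have hk'z : k' • z ∉ D := fun h => hzD ((D.smul_mem_iff hk').1 h)
    have hze : G.T z z e = 0 := by
      have h0 := G.T_eq_zero_of_F hU.2 hbU hbU heU
      rw [hb'z, G.symm₂₃ z d e, G.symm₁₃ z e d, sing_polar hD.2 hd he] at h0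
      simpa [hk] using h0
    have hdd : d' - (k' / k) • d ∈ Submodule.span K {e} := by
      have hzD' : k • z + d ∉ D := hb
      refine mem_span_of_polar hirr hD hzD' (hU.2 _ hbU) he he0 (sub_mem hd' (D.smul_mem _ hd))
        (G.T_eq_zero_of_F hU.2 hbU hbU heU) ?_
      rw [hb'z, G.symm₂₃ z d, G.symm₁₃ z _ d, sing_polar hD.2 hd (sub_mem hd' (D.smul_mem _ hd))]
      simp only [map_smul, LinearMap.smul_apply, smul_eq_mul] at hdiff
      have : G.T z z (d' - (k' / k) • d) = 0 := by simpa [hk'] using hdiff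
      rw [this]; ring
    refine ruling_unique hirr hD hb' hU hU' ?_ hb'U he he0 heU he' he'0 he'U
    have he'' := Submodule.span_le.2 (Set.singleton_subset_iff.2 heU) hdd
    have := add_mem hb₁U he''
    rw [hb₁] at this
    convert this using 1
    module
  refine ((hcand (Q • x + (-P) • y)).finite.union (hcand (S • x + (-R) • y)).finite).subset ?_
  rintro U ⟨hU, β, hβU, hβ, e, he, he0, heU, hT⟩
  obtain ⟨dβ, hdβ, wβ, hwβ, rfl⟩ := Submodule.mem_sup.1 (hW.sup_eq_top.ge (Submodule.mem_top (x := β)))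
  obtain ⟨s, t, rfl⟩ := exists_smul_add hWdim hx hy hli hwβ
  obtain ⟨p, q, rfl⟩ := exists_smul_add hD.1 hd₁ hd₂ hlid he
  have hst : s ≠ 0 ∨ t ≠ 0 := by
    by_contra! h
    exact hβ (by simpa [h.1, h.2] using hdβ)
  have hpq : p ≠ 0 ∨ q ≠ 0 := by
    by_contra! h
    exact he0 (by simp [h.1, h.2])
  have hu : ∀ u, s * (p * G.T x u d₁ + q * G.T x u d₂) + t * (p * G.T y u d₁ + q * G.T y u d₂) = 0 := fun u => by
    have h := LinearMap.congr_fun hT u
    simp only [map_add, LinearMap.add_apply, LinearMap.zero_apply, sing_polar hD.2 hdβ hd₁, sing_polar hD.2 hdβ hd₂,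
      map_smul, LinearMap.smul_apply, smul_eq_mul, G.symm₂₃ x _ u, G.symm₂₃ y _ u] at h
    linear_combination h
  have hex := hu x
  have hey := hu y
  rw [G.symm₁₂ y x] at hex
  rw [G.symm₁₂ y x] at hex
  have hdet : (P * s + Q * t) * (R * s + S * t) = 0 := by
    have h1 : p * ((P * s + Q * t) * (R * s + S * t)) = 0 := by
      linear_combination p * s ^ 2 * f1 + p * s * t * f2 + p * t ^ 2 * f3 + (s * b' + t * c') * hex - (s * a' + t * b') * hey
    have h2 : q * ((P * s + Q * t) * (R * s + S * t)) = 0 := by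
      linear_combination q * s ^ 2 * f1 + q * s * t * f2 + q * t ^ 2 * f3 - (s * b + t * c) * hex + (s * a + t * b) * hey
    rcases hpq with h | h
    · exact (mul_eq_zero.1 h1).resolve_left h
    · exact (mul_eq_zero.1 h2).resolve_left h
  have hsolve : ∀ A B : K, (A ≠ 0 ∨ B ≠ 0) → A * s + B * t = 0 → ∃ k : K, s = k * B ∧ t = k * -A := fun A B hAB h => by
    rcases eq_or_ne B 0 with rfl | hB
    · have hA : A ≠ 0 := hAB.resolve_right (by simp)
      have hs : s = 0 := by simpa [hA] using h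
      exact ⟨-t / A, by simp [hs], by field_simp⟩
    · exact ⟨s / B, by field_simp, by field_simp; linear_combination h⟩
  have hPQ : (P ≠ 0 ∨ Q ≠ 0) ∧ (R ≠ 0 ∨ S ≠ 0) := by
    constructor <;>
    · by_contra! h
      obtain ⟨rfl, rfl⟩ := h
      rcases hnd with h' | h' | h' <;> apply h' <;> first | linear_combination -f1 | linear_combination -f2 | linear_combination -f3
  rcases mul_eq_zero.1 hdet with h | h
  · obtain ⟨k, rfl, rfl⟩ := hsolve P Q hPQ.1 h
    exact Or.inl ⟨hU, _, hβU, hβ, ⟨k, dβ, hdβ, by module⟩, _, he, he0, heU⟩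
  · obtain ⟨k, rfl, rfl⟩ := hsolve R S hPQ.2 h
    exact Or.inr ⟨hU, _, hβU, hβ, ⟨k, dβ, hdβ, by module⟩, _, he, he0, heU⟩

end Double

/-- The T-points lie on finitely many lines, none of which lies in the tangent plane at a point whose
section is not a union of lines. -/
theorem exists_badLines (hirr : Irr G) (hcone : NoCone G) (f : MvPolynomial (Fin 4) K)
    (hG : ∀ v, MvPolynomial.eval v f = G.F v)
    (hG' : ∀ v i, MvPolynomial.eval v (MvPolynomial.pderiv i f) = 3 * G.T v v (Pi.single i 1)) :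
    ∃ 𝓛 : Set (Submodule K (V K)), 𝓛.Finite ∧ (∀ U ∈ 𝓛, IsLine G U) ∧ (∀ b, IsT G b → ∃ U ∈ 𝓛, b ∈ U) ∧
      ∀ a, a ≠ 0 → G.F a = 0 → G.T a a ≠ 0 → ¬ Union3 G (tan G a) → ∀ b, IsT G b →
        ∃ U ∈ 𝓛, b ∈ U ∧ ¬ U ≤ tan G a := by
  -- a double line is not in such a tangent plane
  have hdouble : ∀ {a b : V K} {U : Submodule K (V K)}, G.F a = 0 → G.T a a ≠ 0 → ¬ Union3 G (tan G a) →
      G.T b b ≠ 0 → IsLine G U → (∀ u ∈ U, ∀ h ∈ tan G b, G.T u u h = 0) → ¬ U ≤ tan G a := by
    intro a b U hFa hsa hT hsb hU hd hle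
    have ha := mem_of_line_le hFa hsa hT hU hle
    have he : tan G b = tan G a := Submodule.eq_of_le_of_finrank_eq (fun h hh => mem_tan.2 (hd a ha h hh))
      (by rw [finrank_tan hsb, finrank_tan hsa])
    exact not_double hsa hT hU hle fun u hu h hh => hd u hu h (he ▸ hh)
  by_cases hno : ∃ D, IsSingLine G D
  · obtain ⟨D, hD⟩ := hno
    have hfin : ({U | IsLine G U ∧ Disjoint U D} ∪ torsal G D).Finite :=
      (Set.Subsingleton.finite fun U hU U' hU' => skew_unique hirr hD hU.1 hU'.1 hU.2 hU'.2).union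
        (finite_torsal hirr hcone hD)
    have hout : ∀ {b : V K}, G.T b b ≠ 0 → b ∉ D := fun hb h => hb (hD.2 _ h)
    -- each T-point is on the skew line, or on a torsal one
    have key : ∀ b, IsT G b → ∃ U, IsLine G U ∧ b ∈ U ∧ (Disjoint U D ∨
        (U ∈ torsal G D ∧ ∀ u ∈ U, ∀ h ∈ tan G b, G.T u u h = 0)) := by
      intro b hb
      obtain ⟨U, hU, hbU, ⟨U', hU', hbU', hne⟩ | hd⟩ := hb.cases hirr
      · by_cases hdis : Disjoint U D
        · exact ⟨U, hU, hbU, Or.inl hdis⟩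
        by_cases hdis' : Disjoint U' D
        · exact ⟨U', hU', hbU', Or.inl hdis'⟩
        obtain ⟨e, he, he0, heU⟩ := exists_meet hdis
        obtain ⟨e', he', he'0, he'U⟩ := exists_meet hdis'
        exact absurd (ruling_unique hirr hD (hout hb.2.2.1) hU hU' hbU hbU' he he0 heU he' he'0 he'U).symm hne
      · refine ⟨U, hU, hbU, or_iff_not_imp_left.2 fun hdis => ?_⟩
        obtain ⟨e, he, he0, heU⟩ := exists_meet hdis
        refine ⟨⟨hU, b, hbU, hout hb.2.2.1, e, he, he0, heU, LinearMap.ext fun u => ?_⟩, hd⟩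
        obtain ⟨d, hd', hne⟩ := exists_polar_ne hirr hD (hout hb.2.2.1) hb.2.1
        have hbe : ∀ h ∈ tan G b, G.T b e h = 0 := fun h hh => by
          have h1 := hd (b + e) (add_mem hbU heU) h hh
          simp only [map_add, LinearMap.add_apply, mem_tan.1 hh, sing_polar hD.2 he he, G.symm₁₂ e b h] at h1
          have : 2 * G.T b e h = 0 := by linear_combination h1
          simpa using this
        have hmem : u - (G.T b b u / G.T b b d) • d ∈ tan G b := by
          rw [mem_tan, map_sub, map_smul, smul_eq_mul, div_mul_cancel₀ _ hne, sub_self]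
        have h2 := hbe _ hmem
        rw [map_sub, map_smul, G.symm₂₃ b e d, G.symm₁₃ b d e, sing_polar hD.2 he hd', smul_zero, sub_zero] at h2
        exact h2
    refine ⟨_, hfin, fun U hU => hU.elim (fun h => h.1) fun h => h.1, fun b hb => ?_,
      fun a ha hFa hsa hT b hb => ?_⟩
    · obtain ⟨U, hU, hbU, hdis | ⟨htor, -⟩⟩ := key b hb
      exacts [⟨U, Or.inl ⟨hU, hdis⟩, hbU⟩, ⟨U, Or.inr htor, hbU⟩]
    obtain ⟨U, hU, hbU, hdis | ⟨htor, hd⟩⟩ := key b hb
    · refine ⟨U, Or.inl ⟨hU, hdis⟩, hbU, fun hle => ?_⟩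
      obtain ⟨e, he, he0, heH⟩ : ∃ e ∈ D, e ≠ 0 ∧ e ∈ tan G a := by
        refine exists_meet fun h => ?_
        have h1 := Submodule.finrank_sup_add_finrank_inf_eq (tan G a) D
        have h2 := Submodule.finrank_le (tan G a ⊔ D)
        rw [h.eq_bot, finrank_bot, finrank_tan hsa, hD.1] at h1
        simp only [Module.finrank_fin_fun] at h2
        omega
      have hli : LinearIndependent K ![a, e] :=
        (LinearIndependent.pair_iff' ha).2 fun c hc => by
          rcases eq_or_ne c 0 with rfl | hc0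
          · simp at hc; exact he0 hc.symm
          · exact hout hsa ((D.smul_mem_iff hc0).1 (hc ▸ he))
      have hline : IsLine G (line a e) := by
        refine ⟨finrank_span_pair_li hli, fun u hu => ?_⟩
        obtain ⟨s, t, rfl⟩ := Submodule.mem_span_pair.1 hu
        rw [F_add_sing hD _ (D.smul_mem t he), G.F_smul, hFa]
        simp only [map_smul, LinearMap.smul_apply, smul_eq_mul, mem_tan.1 heH]
        ring
      have heq := line_unique ha hFa hsa hT hU hline hle (Submodule.span_le.2 (by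
        rintro v (rfl | rfl); exacts [self_mem_tan hFa, heH]))
      exact he0 (Submodule.disjoint_def.1 hdis e (heq ▸ Submodule.subset_span (Or.inr rfl)) he)
    · exact ⟨U, Or.inr htor, hbU, hdouble hFa hsa hT hb.2.2.1 hU hd⟩
  · refine ⟨_, finite_lines hirr hcone f hG hG' hno, fun U hU => hU, fun b hb => ?_, fun a ha hFa hsa hT b hb => ?_⟩
    · obtain ⟨U, hU, hbU, -⟩ := hb.cases hirr
      exact ⟨U, hU, hbU⟩
    obtain ⟨U, hU, hbU, ⟨U', hU', hbU', hne⟩ | hd⟩ := hb.cases hirr
    · by_cases hle : U ≤ tan G a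
      · exact ⟨U', hU', hbU', fun hle' => hne (line_unique ha hFa hsa hT hU' hU hle' hle)⟩
      · exact ⟨U, hU, hbU, hle⟩
    · exact ⟨U, hU, hbU, hdouble hFa hsa hT hb.2.2.1 hU hd⟩

end Groth.Agent.Cubic70
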