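import Mathlib

/-!
# Linear Pfaffian representations of cubics through five points in general position
-/

universe u

namespace Groth.Agent.Cubic70

open MvPolynomial

variable {k : Type u} [Field k]

/-- The alternating matrix of linear forms whose Pfaffians cut out five points, bordered by a column. -/
def pfMat {R : Type u} [CommRing R] (x : Fin 4 → R) (l : Fin 5 → R) : Matrix (Fin 6) (Fin 6) R :=
  !![0, x 1, x 3, 0, -x 1, l 0;
     -x 1, 0, 0, -x 2, x 1, l 1;
     -x 3, 0, 0, -x 0, x 0, l 2;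
     0, x 2, x 0, 0, -x 0, l 3;
     x 1, -x 1, -x 0, x 0, 0, l 4;
     -l 0, -l 1, -l 2, -l 3, -l 4, 0]

/-- The five quadrics. -/
def quad {R : Type u} [CommRing R] (x : Fin 4 → R) : Fin 5 → R :=
  ![x 0 * x 1 - x 0 * x 2, x 0 * x 1 - x 0 * x 3, x 0 * x 1 - x 1 * x 2, x 0 * x 1 - x 1 * x 3,
    x 0 * x 1 - x 2 * x 3]

theorem det_pfMat {R : Type u} [CommRing R] (x : Fin 4 → R) (l : Fin 5 → R) :
    (pfMat x l).det = (∑ i, l i * quad x i) ^ 2 := by
  simp [pfMat, quad, Matrix.det_succ_row_zero, Fin.sum_univ_succ, Fin.succAbove]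
  ring

theorem transpose_pfMat {R : Type u} [CommRing R] (x : Fin 4 → R) (l : Fin 5 → R) :
    (pfMat x l).transpose = -pfMat x l ∧ ∀ i, pfMat x l i i = 0 := by
  refine ⟨?_, fun i => ?_⟩
  · ext i j; fin_cases i <;> fin_cases j <;> simp [pfMat]
  · fin_cases i <;> simp [pfMat]

theorem det_map_pfMat {R S : Type u} [CommRing R] [CommRing S] (φ : R →+* S) (x : Fin 4 → R) (l : Fin 5 → R) :
    (φ.mapMatrix (pfMat x l)).det = φ (∑ i, l i * quad x i) ^ 2 := by
  rw [← RingHom.map_det, det_pfMat, map_pow]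

/-- Combinations of the five quadrics with linear coefficients. -/
noncomputable def combs : Submodule k (MvPolynomial (Fin 4) k) :=
  ⨆ i, (homogeneousSubmodule (Fin 4) k 1).map (LinearMap.mulRight k (quad X i))

theorem mem_combs {p : MvPolynomial (Fin 4) k} :
    p ∈ combs ↔ ∃ l : Fin 5 → MvPolynomial (Fin 4) k, (∀ i, (l i).IsHomogeneous 1) ∧ ∑ i, l i * quad X i = p := by
  constructor
  · intro h
    obtain ⟨μ, rfl⟩ := (Submodule.mem_iSup_finset_iff_exists_sum (s := Finset.univ)
      (fun i : Fin 5 => (homogeneousSubmodule (Fin 4) k 1).map (LinearMap.mulRight k (quad X i))) p).1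
        (by simpa [combs] using h)
    choose l hl hl' using fun i => Submodule.mem_map.1 (μ i).2
    exact ⟨l, hl, Finset.sum_congr rfl fun i _ => hl' i⟩
  · rintro ⟨l, hl, rfl⟩
    exact Submodule.sum_mem _ fun i _ => Submodule.mem_iSup_of_mem i ⟨l i, hl i, rfl⟩

theorem pair_sub_mem {i j : Fin 4} (h : i ≠ j) (m : Fin 4) :
    ((X i * X j - X 0 * X 1) * X m : MvPolynomial (Fin 4) k) ∈ combs := by
  have key : ∀ t : Fin 5, (quad X t * X m : MvPolynomial (Fin 4) k) ∈ combs := fun t =>
    Submodule.mem_iSup_of_mem t ⟨X m, isHomogeneous_X k m, mul_comm _ _⟩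
  have hs : ∀ t : Fin 5, (-quad X t * X m : MvPolynomial (Fin 4) k) ∈ combs := fun t => by
    rw [neg_mul]; exact neg_mem (key t)
  have hh : ∀ t (e : MvPolynomial (Fin 4) k), e = -quad X t → e * X m ∈ combs := fun t e he => he ▸ hs t
  have h0 : ∀ e : MvPolynomial (Fin 4) k, e = 0 → e * X m ∈ combs := fun e he => by
    rw [he, zero_mul]; exact zero_mem _
  fin_cases i <;> fin_cases j <;> first
    | exact absurd rfl h
    | (refine h0 _ ?_; simp only [Fin.isValue, Fin.reduceFinMk]; ring1)
    | (refine hh 0 _ ?_; simp [quad] <;> ring1)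
    | (refine hh 1 _ ?_; simp [quad] <;> ring1)
    | (refine hh 2 _ ?_; simp [quad] <;> ring1)
    | (refine hh 3 _ ?_; simp [quad] <;> ring1)
    | (refine hh 4 _ ?_; simp [quad] <;> ring1)

theorem triple_sub_mem (i j m : Fin 4) (h : ¬(i = j ∧ j = m)) :
    (X i * X j * X m - X 0 * X 1 * X 0 : MvPolynomial (Fin 4) k) ∈ combs := by
  have h1 : ∀ a b c : Fin 4, a ≠ b → (X a * X b * X c - X 0 * X 1 * X c : MvPolynomial (Fin 4) k) ∈ combs :=
    fun a b c hab => by rw [← sub_mul]; exact pair_sub_mem hab c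
  have h2 : ∀ c : Fin 4, (X 0 * X 1 * X c - X 0 * X 1 * X 0 : MvPolynomial (Fin 4) k) ∈ combs := fun c => by
    have h3 : ∀ c : Fin 4, c ≠ 0 → c ≠ 1 →
        (X 0 * X 1 * X c - X 0 * X 1 * X 0 : MvPolynomial (Fin 4) k) ∈ combs := fun c hc0 hc1 => by
      convert sub_mem (h1 1 c 0 hc1.symm) (zero_mem combs) using 1; ring
    rcases eq_or_ne c 0 with rfl | hc0
    · simp
    rcases eq_or_ne c 1 with rfl | hc1
    · convert add_mem (sub_mem (h3 2 (by decide) (by decide)) (h1 0 2 1 (by decide))) (zero_mem combs) using 1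
      ring
    · exact h3 c hc0 hc1
  rcases eq_or_ne i j with rfl | hij
  · have hm : i ≠ m := fun hh => h ⟨rfl, hh⟩
    convert add_mem (h1 i m i hm) (h2 i) using 1; ring
  · convert add_mem (h1 i j m hij) (h2 m) using 1; ring

theorem exists_triple (d : Fin 4 →₀ ℕ) (hd : d.degree = 3) :
    ∃ i j m : Fin 4, monomial d (1 : k) = X i * X j * X m ∧ Finsupp.single i 1 + Finsupp.single j 1 + Finsupp.single m 1 = d := by
  have hc : d.toMultiset.card = 3 := by rw [Finsupp.card_toMultiset, ← hd]; rfl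
  obtain ⟨i, j, m, he⟩ := Multiset.card_eq_three.1 hc
  have hd' : Finsupp.single i 1 + Finsupp.single j 1 + Finsupp.single m 1 = d := by
    ext a
    have := congrArg (Multiset.count a) he
    rw [Finsupp.count_toMultiset] at this
    rw [this]
    simp only [Finsupp.add_apply, Finsupp.single_apply, Multiset.insert_eq_cons, Multiset.count_cons,
      Multiset.count_singleton, eq_comm (a := a)]
    omega
  exact ⟨i, j, m, by rw [← hd', ← mul_one (1 : k), ← mul_one ((1 : k) * 1)]; simp [X, monomial_mul], hd'⟩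

/-- A cubic through the five standard points is a combination of the five quadrics. -/
theorem mem_combs_of_eval (F : MvPolynomial (Fin 4) k) (hF : F.IsHomogeneous 3)
    (h0 : ∀ i, eval (Pi.single i 1) F = 0) (h1 : eval (fun _ => 1) F = 0) : F ∈ combs := by
  classical
  have hF' : F = ∑ d ∈ F.support, monomial d (coeff d F) := (support_sum_monomial_coeff F).symm
  have hdeg : ∀ d ∈ F.support, d.degree = 3 := fun d hd => by
    by_contra hne
    exact mem_support_iff.1 hd (hF.coeff_eq_zero hne)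
  have hpure : ∀ i : Fin 4, coeff (Finsupp.single i 3) F = 0 := by
    intro i
    have h := h0 i
    rw [eval_eq] at h
    rw [Finset.sum_eq_single (Finsupp.single i 3)] at h
    · simpa [Finsupp.support_single] using h
    · intro d hd hne
      obtain ⟨a, ha, hai⟩ : ∃ a ∈ d.support, a ≠ i := by
        by_contra! hall
        refine hne ?_
        obtain ⟨c, rfl⟩ : ∃ c, d = Finsupp.single i c :=
          Finsupp.support_subset_singleton'.1 fun a ha => Finset.mem_singleton.2 (hall a ha)
        rw [show c = 3 by simpa using hdeg _ hd]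
      rw [Finset.prod_eq_zero ha, mul_zero]
      rw [Pi.single_eq_of_ne hai, zero_pow (Finsupp.mem_support_iff.1 ha)]
    · intro h; simp [notMem_support_iff.1 h]
  have hsum : ∑ d ∈ F.support, coeff d F = 0 := by
    rw [eval_eq] at h1; simpa using h1
  have h : F - C (∑ d ∈ F.support, coeff d F) * (X 0 * X 1 * X 0) ∈ combs := by
    rw [map_sum, Finset.sum_mul]
    nth_rewrite 1 [hF']
    rw [← Finset.sum_sub_distrib]
    refine Submodule.sum_mem _ fun d hd => ?_
    obtain ⟨i, j, m, e, e'⟩ := exists_triple (k := k) d (hdeg d hd)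
    have hm : monomial d (coeff d F) = C (coeff d F) * (X i * X j * X m) := by
      rw [← e, C_mul_monomial, mul_one]
    rw [hm, ← mul_sub, C_mul']
    refine Submodule.smul_mem _ _ (triple_sub_mem i j m fun hh => ?_)
    obtain ⟨rfl, rfl⟩ := hh
    refine mem_support_iff.1 hd ?_
    rw [← e', ← Finsupp.single_add, ← Finsupp.single_add]
    exact hpure i
  rw [hsum, map_zero, zero_mul, sub_zero] at h
  exact h

theorem eval_smul_of_homogeneous {σ : Type*} {g : MvPolynomial σ k} {n : ℕ} (hg : g.IsHomogeneous n) (c : k)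
    (v : σ → k) : eval (c • v) g = c ^ n * eval v g := by
  classical
  rw [eval_eq, eval_eq, Finset.mul_sum]
  refine Finset.sum_congr rfl fun d hd => ?_
  have h : d.degree = n := by
    by_contra hne
    exact mem_support_iff.1 hd (hg.coeff_eq_zero hne)
  simp only [Pi.smul_apply, smul_eq_mul, mul_pow, Finset.prod_mul_distrib]
  rw [Finset.prod_pow_eq_pow_sum, show ∑ i ∈ d.support, d i = n from h]
  ring

theorem isHomogeneous_pfMat {x : Fin 4 → MvPolynomial (Fin 4) k} (hx : ∀ i, (x i).IsHomogeneous 1)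
    {l : Fin 5 → MvPolynomial (Fin 4) k} (hl : ∀ i, (l i).IsHomogeneous 1) (i j : Fin 6) :
    (pfMat x l i j).IsHomogeneous 1 := by
  fin_cases i <;> fin_cases j <;> simp [pfMat] <;>
    first | exact hx _ | exact (hx _).neg | exact hl _ | exact (hl _).neg | exact isHomogeneous_zero _ _ _

/-- A cubic with five zeroes, no four linearly dependent, is a linear Pfaffian. -/
theorem exists_rep [Infinite k] (F : MvPolynomial (Fin 4) k) (hF : F.IsHomogeneous 3) (p : Fin 5 → (Fin 4 → k))
    (hp : ∀ j, eval (p j) F = 0) (hli : ∀ j : Fin 5, LinearIndependent k (fun i : Fin 4 => p (j.succAbove i))) :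
    ∃ M : Matrix (Fin 6) (Fin 6) (MvPolynomial (Fin 4) k), (∀ i j, (M i j).IsHomogeneous 1) ∧ M.transpose = -M ∧
      (∀ i, M i i = 0) ∧ ∃ c : k, c ≠ 0 ∧ M.det = C c * F ^ 2 := by
  classical
  let bas : Module.Basis (Fin 4) k (Fin 4 → k) := basisOfLinearIndependentOfCardEqFinrank (hli 0) (by simp)
  have hbas : ∀ i, bas i = p i.succ := fun i => by simp [bas]
  let a : Fin 4 → k := fun i => bas.repr (p 0) i
  have hp0 : ∑ i, a i • p i.succ = p 0 := by simp only [a, ← hbas]; exact bas.sum_repr _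
  have ha : ∀ i, a i ≠ 0 := by
    intro i hi
    let s : Fin 5 → k := Fin.cons (-1) a
    have hs : ∑ t, s t • p t = 0 := by rw [Fin.sum_univ_succ]; simp [s, hp0]
    rw [Fin.sum_univ_succAbove _ i.succ, show s i.succ = 0 by simp [s, hi], zero_smul, zero_add] at hs
    have h := Fintype.linearIndependent_iff.1 (hli i.succ) _ hs 0
    simp [s] at h
  let A : Matrix (Fin 4) (Fin 4) k := Matrix.of fun r i => a i * p i.succ r
  have hA : ∀ v, A.mulVec v = ∑ i, (v i * a i) • p i.succ := fun v => by
    ext r; simp [A, Matrix.mulVec, dotProduct, Finset.sum_apply]; exact Finset.sum_congr rfl fun i _ => by ring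
  have hAu : IsUnit A.det := by
    rw [← Matrix.isUnit_iff_isUnit_det, ← Matrix.mulVec_injective_iff_isUnit]
    refine (injective_iff_map_eq_zero (Matrix.mulVecLin A)).2 fun v hv => ?_
    rw [Matrix.mulVecLin_apply, hA] at hv
    funext i
    exact (mul_eq_zero.1 (Fintype.linearIndependent_iff.1 (hli 0) (fun i => v i * a i) (by simpa using hv) i)).resolve_right (ha i)
  let σ : Matrix (Fin 4) (Fin 4) k → (MvPolynomial (Fin 4) k →ₐ[k] MvPolynomial (Fin 4) k) := fun B =>
    aeval fun i => ∑ j, C (B i j) * X j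
  have hσ : ∀ B v g, eval v (σ B g) = eval (B.mulVec v) g := fun B v g => by
    simp only [σ, aeval_def, algebraMap_eq]
    rw [eval₂_comp_left (eval v)]
    congr 1
    · ext r; simp
    · funext i; simp [Matrix.mulVec, dotProduct]
  have hσh : ∀ B (g : MvPolynomial (Fin 4) k) n, g.IsHomogeneous n → (σ B g).IsHomogeneous n := fun B g n hg => by
    simpa using hg.aeval (fun i => ∑ j, C (B i j) * X j) (n := 1) fun i =>
      IsHomogeneous.sum _ _ _ fun j _ => by simpa using (isHomogeneous_C (Fin 4) (B i j)).mul (isHomogeneous_X k j)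
  obtain ⟨l, hl, hlF⟩ := mem_combs.1 (mem_combs_of_eval (σ A F) (hσh _ _ _ hF)
    (fun i => by
      rw [hσ, hA, Finset.sum_eq_single i]
      · rw [Pi.single_eq_same, one_mul, eval_smul_of_homogeneous hF, hp, mul_zero]
      · intro j _ hj; simp [Pi.single_eq_of_ne hj]
      · simp)
    (by rw [hσ, hA]; simp only [one_mul]; rw [hp0]; exact hp 0))
  have hpf : ∀ i j, (pfMat X l i j).IsHomogeneous 1 := isHomogeneous_pfMat (isHomogeneous_X k) hl
  clear_value σ
  refine ⟨(σ A⁻¹).mapMatrix (pfMat X l), fun i j => ?_, ?_, fun i => ?_, 1, one_ne_zero, ?_⟩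
  · rw [AlgHom.mapMatrix_apply, Matrix.map_apply]
    exact hσh _ _ _ (hpf i j)
  · rw [AlgHom.mapMatrix_apply, ← Matrix.transpose_map, (transpose_pfMat X l).1]
    ext i j : 2; simp
  · simp [(transpose_pfMat X l).2 i]
  · refine (det_map_pfMat (σ A⁻¹).toRingHom X l).trans ?_
    refine Eq.trans ?_ (by rw [map_one, one_mul] : F ^ 2 = C (1 : k) * F ^ 2)
    refine congrArg (· ^ 2) ((congrArg (σ A⁻¹).toRingHom hlF).trans ?_)
    refine MvPolynomial.funext fun v => ?_
    show eval v (σ A⁻¹ (σ A F)) = _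
    rw [hσ, hσ, Matrix.mulVec_mulVec, Matrix.mul_nonsing_inv A hAu, Matrix.one_mulVec]

end Groth.Agent.Cubic70
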