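import Groth.Agent.Cubic70.Poly
import Groth.Agent.Cubic70.Pfaffian

/-!
# Five rational points in general position
-/

universe u v

namespace Groth.Agent.Cubic70

open Module CubicLib MvPolynomial

section Functions

variable {K : Type u} [Field K] {σ : Type} [Fintype σ] [DecidableEq σ]

/-- Polynomial functions. -/
def IsPoly (f : (σ → K) → K) : Prop := ∃ P : MvPolynomial σ K, ∀ x, eval x P = f x

theorem IsPoly.mul {f g : (σ → K) → K} : IsPoly f → IsPoly g → IsPoly fun x => f x * g x :=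
  fun ⟨P, hP⟩ ⟨Q, hQ⟩ => ⟨P * Q, fun x => by simp [hP, hQ]⟩

theorem IsPoly.sub {f g : (σ → K) → K} : IsPoly f → IsPoly g → IsPoly fun x => f x - g x :=
  fun ⟨P, hP⟩ ⟨Q, hQ⟩ => ⟨P - Q, fun x => by simp [hP, hQ]⟩

theorem IsPoly.sum {ι : Type} [Fintype ι] {f : ι → (σ → K) → K} (h : ∀ i, IsPoly (f i)) :
    IsPoly fun x => ∑ i, f i x := by
  choose P hP using h
  exact ⟨∑ i, P i, fun x => by simp [hP]⟩

theorem isPoly_const (c : K) : IsPoly fun _ : σ → K => c := ⟨C c, fun _ => by simp⟩

theorem isPoly_lin (l : (σ → K) →ₗ[K] K) : IsPoly fun x => l x :=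
  ⟨∑ i, C (l (Pi.single i 1)) * X i, fun x => by
    show _ = l x
    conv_rhs => rw [pi_eq_sum_univ' x, map_sum]
    simp only [map_sum, map_mul, eval_C, eval_X, map_smul, smul_eq_mul]
    exact Finset.sum_congr rfl fun i _ => mul_comm _ _⟩

variable (G : Cubic K (V K)) (L : (σ → K) →ₗ[K] V K)

theorem apply_eq_sum (l : V K →ₗ[K] K) (v : V K) : l v = ∑ i, v i * l (Pi.single i 1) := by
  conv_lhs => rw [pi_eq_sum_univ' v, map_sum]
  simp

theorem isPoly_T₂ (c : V K) : IsPoly fun x => G.T c (L x) (L x) := by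
  have h : (fun x => G.T c (L x) (L x)) =
      fun x => ∑ i : Fin 4, ((LinearMap.proj i).comp L) x * ((G.T c (Pi.single i 1)).comp L) x := by
    funext x
    rw [G.symm₂₃, apply_eq_sum (G.T c (L x)) (L x)]
    exact Finset.sum_congr rfl fun i _ => by rw [G.symm₂₃]; rfl
  rw [h]
  exact IsPoly.sum fun i => (isPoly_lin _).mul (isPoly_lin _)

theorem isPoly_F : IsPoly fun x => G.F (L x) := by
  have h : (fun x => G.F (L x)) =
      fun x => ∑ i : Fin 4, ((LinearMap.proj i).comp L) x * G.T (Pi.single i 1) (L x) (L x) := by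
    funext x
    show G.T (L x) (L x) (L x) = _
    rw [apply_eq_sum (G.T (L x) (L x)) (L x)]
    exact Finset.sum_congr rfl fun i _ => by rw [G.symm₁₃]; rfl
  rw [h]
  exact IsPoly.sum fun i => (isPoly_lin _).mul (isPoly_T₂ G L _)

theorem IsPoly.eq_zero_of_mul [Infinite K] {f g : (σ → K) → K} (hf : IsPoly f) (hg : IsPoly g)
    (h : ∀ x, f x * g x = 0) : (∀ x, f x = 0) ∨ ∀ x, g x = 0 := by
  obtain ⟨P, hP⟩ := hf
  obtain ⟨Q, hQ⟩ := hg
  rcases mul_eq_zero.1 (show P * Q = 0 from MvPolynomial.funext fun x => by simp [hP, hQ, h]) with h' | h'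
  · exact Or.inl fun x => by rw [← hP, h', map_zero]
  · exact Or.inr fun x => by rw [← hQ, h', map_zero]

theorem exists_rational {k : Type v} [Field k] [Infinite k] [Algebra k K] {ι : Type*} (s : Finset ι)
    (f : ι → (σ → K) → K) (hp : ∀ i ∈ s, IsPoly (f i)) (hne : ∀ i ∈ s, ∃ x, f i x ≠ 0) :
    ∃ x : σ → k, ∀ i ∈ s, f i (fun j => algebraMap k K (x j)) ≠ 0 := by
  choose P hP using hp
  let R : MvPolynomial σ K := ∏ i ∈ s.attach, P i.1 i.2
  have hR : R ≠ 0 := Finset.prod_ne_zero_iff.2 fun i _ h0 => by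
    obtain ⟨x, hx⟩ := hne i.1 i.2
    exact hx (by rw [← hP i.1 i.2, h0, map_zero])
  obtain ⟨x, hx⟩ : ∃ x : σ → k, eval (fun j => algebraMap k K (x j)) R ≠ 0 := by
    by_contra! hall
    refine hR (MvPolynomial.funext_set (fun _ => Set.range (algebraMap k K))
      (fun _ => Set.infinite_range_of_injective (algebraMap k K).injective) fun y hy => ?_)
    choose z hz using fun j => hy j (Set.mem_univ j)
    rw [map_zero, show y = fun j => algebraMap k K (z j) from funext fun j => (hz j).symm]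
    exact hall z
  refine ⟨x, fun i hi h0 => hx ?_⟩
  rw [map_prod]
  exact Finset.prod_eq_zero (Finset.mem_attach _ ⟨i, hi⟩) (by rw [hP, h0])

end Functions

variable {k : Type v} [Field k] {K : Type u} [Field K] [Algebra k K]

/-- The inclusion of rational vectors. -/
def incl (v : V k) : V K := fun i => algebraMap k K (v i)

/-- A rational functional over the big field. -/
noncomputable def liftLin (f : V k →ₗ[k] k) : V K →ₗ[K] K :=
  ∑ i, algebraMap k K (f (Pi.single i 1)) • LinearMap.proj i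

theorem liftLin_incl (f : V k →ₗ[k] k) (v : V k) : liftLin (K := K) f (incl v) = algebraMap k K (f v) := by
  conv_rhs => rw [apply_eq_sum f v]
  simp only [liftLin, LinearMap.sum_apply, LinearMap.smul_apply, LinearMap.proj_apply, incl, smul_eq_mul, map_sum, map_mul]
  exact Finset.sum_congr rfl fun i _ => mul_comm _ _

theorem incl_add (v w : V k) : incl (K := K) (v + w) = incl v + incl w := funext fun i => by simp [incl]

theorem incl_smul (c : k) (v : V k) : incl (K := K) (c • v) = algebraMap k K c • incl v :=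
  funext fun i => by simp [incl]

theorem incl_sub (v w : V k) : incl (K := K) (v - w) = incl v - incl w := funext fun i => by simp [incl]

theorem incl_ne_zero {v : V k} (hv : v ≠ 0) : incl (K := K) v ≠ 0 := fun h =>
  hv (funext fun i => (algebraMap k K).injective (by simpa [incl] using congrFun h i))

/-- The residual intersection of the line through `a` and `u`. -/
def phi {L : Type*} [Field L] (G : Cubic L (V L)) (a u : V L) : V L := G.F u • a - (3 * G.T a u u) • u

theorem F_phi {L : Type*} [Field L] (G : Cubic L (V L)) {a u : V L} (hFa : G.F a = 0) (hu : G.T a a u = 0) :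
    G.F (phi G a u) = 0 := by
  rw [phi, sub_eq_add_neg, ← neg_smul, G.F_comb₂, hFa, hu]
  ring

theorem polar {L : Type*} [Field L] (G : Cubic L (V L)) (u v w : V L) :
    6 * G.T u v w = G.F (u + v + w) - G.F (u + v) - G.F (u + w) - G.F (v + w) + G.F u + G.F v + G.F w := by
  have e1 := G.F_comb₃ u v w 1 1 1
  have e2 := G.F_comb₂ u v 1 1
  have e3 := G.F_comb₂ u w 1 1
  have e4 := G.F_comb₂ v w 1 1
  simp only [one_smul] at e1 e2 e3 e4
  rw [e1, e2, e3, e4]; ring

/-- Compatible forms over `k` and `K`. -/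
structure Compat (G : Cubic k (V k)) (GK : Cubic K (V K)) : Prop where
  T_incl : ∀ u v w, GK.T (incl u) (incl v) (incl w) = algebraMap k K (G.T u v w)

variable {G : Cubic k (V k)} {GK : Cubic K (V K)}

theorem Compat.F_incl (h : Compat G GK) (v : V k) : GK.F (incl v) = algebraMap k K (G.F v) := h.T_incl v v v

theorem Compat.phi_incl (h : Compat G GK) (a u : V k) : incl (phi G a u) = phi GK (incl a) (incl u) := by
  simp only [phi, incl_sub, incl_smul, h.F_incl, h.T_incl, map_mul, map_ofNat]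

theorem compat_of_form [CharZero k] [CharZero K] {F : MvPolynomial (Fin 4) k} (hG : IsForm F G)
    (hGK : IsForm (MvPolynomial.map (algebraMap k K) F) GK) : Compat G GK := by
  have hF : ∀ v, GK.F (incl v) = algebraMap k K (G.F v) := fun v => by
    rw [← hGK.eval_eq, ← hG.eval_eq]
    exact (MvPolynomial.eval_map _ _ _).trans (eval₂_comp_left (algebraMap k K) (RingHom.id k) v F).symm
  refine ⟨fun u v w => mul_left_cancel₀ (show (6 : K) ≠ 0 by norm_num) ?_⟩
  rw [polar, ← incl_add, ← incl_add, ← incl_add, ← incl_add, hF, hF, hF, hF, hF, hF, hF,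
    ← map_ofNat (algebraMap k K) 6, ← map_mul, polar]
  simp only [map_sub, map_add]

variable [IsAlgClosed K] [CharZero K]

/-- Coordinates in a tangent plane. -/
theorem plane_coords {a : V K} (ha : a ≠ 0) (hFa : GK.F a = 0) (hsa : GK.T a a ≠ 0) :
    ∃ (x y : V K) (φ₁ φ₂ φ₃ : V K →ₗ[K] K), x ∈ tan GK a ∧ y ∈ tan GK a ∧
      ∀ h ∈ tan GK a, h = φ₁ h • a + φ₂ h • x + φ₃ h • y := by
  have h3 := finrank_tan hsa
  obtain ⟨x, hx, hxn⟩ : ∃ x ∈ tan GK a, x ∉ Submodule.span K {a} := by
    by_contra! h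
    have := Submodule.finrank_mono (show tan GK a ≤ Submodule.span K {a} from h)
    rw [finrank_span_singleton ha, h3] at this
    omega
  have hli := li_pair_of_notMem ha hxn
  obtain ⟨y, hy, hyn⟩ : ∃ y ∈ tan GK a, y ∉ Submodule.span K {a, x} := by
    by_contra! h
    have := Submodule.finrank_mono (show tan GK a ≤ Submodule.span K {a, x} from h)
    rw [finrank_span_pair_li hli, h3] at this
    omega
  obtain ⟨φ₁, φ₂, φ₃, hφ⟩ := exists_mem_of_li (li_three_of_notMem hli hyn) h3 hy (self_mem_tan hFa) hx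
  exact ⟨x, y, φ₂, φ₃, φ₁, hx, hy, fun h hh => (hφ h hh).trans (by abel)⟩

theorem phi_not_in_plane {a : V K} (ha : a ≠ 0) (hFa : GK.F a = 0) (hsa : GK.T a a ≠ 0)
    (hT : ¬ Union3 GK (tan GK a)) :
    (∃ u ∈ tan GK a, GK.T a u u ≠ 0) ∧
      ∀ ν : V K →ₗ[K] K, (∃ h ∈ tan GK a, ν h ≠ 0) → ∃ u ∈ tan GK a, ν (phi GK a u) ≠ 0 := by
  obtain ⟨x, y, φ₁, φ₂, φ₃, hx, hy, hφ⟩ := plane_coords ha hFa hsa
  have hexp : ∀ h ∈ tan GK a, GK.T a h h =
      GK.T a x x * φ₂ h ^ 2 + 2 * GK.T a x y * φ₂ h * φ₃ h + GK.T a y y * φ₃ h ^ 2 := fun h hh => by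
    conv_lhs => rw [hφ h hh]
    simp only [map_add, map_smul, LinearMap.add_apply, LinearMap.smul_apply, smul_eq_mul]
    rw [show GK.T a a a = 0 from hFa, mem_tan.1 hx, mem_tan.1 hy, GK.symm₂₃ a x a,
      GK.symm₂₃ a y a, mem_tan.1 hx, mem_tan.1 hy, GK.symm₂₃ a y x]
    ring
  have hQ : ∃ u ∈ tan GK a, GK.T a u u ≠ 0 := by
    by_contra! hall
    obtain ⟨p, q, r, w, x', y', hfac⟩ :=
      exists_cubic_factor (GK.F x) (3 * GK.T x x y) (3 * GK.T x y y) (GK.F y)
    refine hT ⟨p • φ₂ + q • φ₃, r • φ₂ + w • φ₃, x' • φ₂ + y' • φ₃, fun h hh => ?_⟩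
    have hz := hall h hh
    rw [hexp h hh] at hz
    simp only [LinearMap.add_apply, LinearMap.smul_apply, smul_eq_mul]
    rw [← hfac]
    conv_lhs => rw [hφ h hh, GK.F_comb₃]
    rw [hFa, mem_tan.1 hx, mem_tan.1 hy]
    linear_combination (3 * φ₁ h) * hz
  refine ⟨hQ, fun ν hν => ?_⟩
  by_contra! hall
  rcases eq_or_ne (ν a) 0 with hνa | hνa
  · obtain ⟨u, hu, hQu⟩ := hQ
    obtain ⟨v, hv, hνv⟩ := hν
    let L : (Fin 2 → K) →ₗ[K] V K :=
      (LinearMap.proj 0).smulRight u + (LinearMap.proj 1).smulRight v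
    have hL : ∀ t, L t ∈ tan GK a := fun t =>
      add_mem (Submodule.smul_mem _ _ hu) (Submodule.smul_mem _ _ hv)
    rcases IsPoly.eq_zero_of_mul (isPoly_T₂ GK L a) (isPoly_lin (ν.comp L)) (fun t => by
      have h := hall (L t) (hL t)
      simp only [phi, map_sub, map_smul, smul_eq_mul, hνa] at h
      show GK.T a (L t) (L t) * ν (L t) = 0
      linear_combination (-1 / 3 : K) * h) with h | h
    · have := h (Pi.single 0 1); simp [L] at this; exact hQu this
    · have := h (Pi.single 1 1); simp [L] at this; exact hνv this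
  · obtain ⟨p, q, r, w, e1, e2, e3⟩ := exists_quad_factor (GK.T a x x) (2 * GK.T a x y) (GK.T a y y)
    refine hT ⟨(3 / ν a) • ν, p • φ₂ + q • φ₃, r • φ₂ + w • φ₃, fun h hh => ?_⟩
    have hn := hall h hh
    simp only [phi, map_sub, map_smul, smul_eq_mul, hexp h hh] at hn
    simp only [LinearMap.add_apply, LinearMap.smul_apply, smul_eq_mul]
    field_simp
    linear_combination hn + (-3 * ν h * φ₂ h ^ 2) * e1 + (-3 * ν h * φ₂ h * φ₃ h) * e2 + (-3 * ν h * φ₃ h ^ 2) * e3

theorem exists_param [Infinite k] (hc : Compat G GK) {a : V k} (ha : a ≠ 0) (hFa : GK.F (incl a) = 0)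
    (hsa : GK.T (incl a) (incl a) ≠ 0) (hT : ¬ Union3 GK (tan GK (incl a))) (N : Finset (V K →ₗ[K] K))
    (hN : ∀ ν ∈ N, ∃ h ∈ tan GK (incl a), ν h ≠ 0) :
    ∃ b : V k, G.F b = 0 ∧ incl b ∈ tan GK (incl a) ∧ GK.T (incl b) (incl b) (incl a) ≠ 0 ∧
      ∀ ν ∈ N, ν (incl b) ≠ 0 := by
  classical
  have hFa' : G.F a = 0 := (algebraMap k K).injective (by rw [← hc.F_incl, hFa, map_zero])
  have hsa' : G.T a a ≠ 0 := fun h => hsa (LinearMap.ext fun v => by
    rw [apply_eq_sum (GK.T (incl a) (incl a)) v]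
    refine Finset.sum_eq_zero fun i _ => ?_
    rw [show (Pi.single i 1 : V K) = incl (Pi.single i 1 : V k) from funext fun j => by
      rcases eq_or_ne j i with rfl | hj <;> simp [incl, *], hc.T_incl, h]
    simp)
  obtain ⟨bH, hbH⟩ := exists_linearIndependent_of_le_finrank (finrank_tan hsa').ge
  let h : Fin 3 → V k := fun i => (bH i : V k)
  have hli : LinearIndependent k h := hbH.map' _ (tan G a).ker_subtype
  have hliK : LinearIndependent K fun i => incl (K := K) (h i) := by
    obtain ⟨φ₁, φ₂, φ₃, hφ⟩ := exists_mem_of_li (x := h 0) (y := h 1) (z := h 2)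
      (by rwa [show ![h 0, h 1, h 2] = h from by funext i; fin_cases i <;> rfl]) (finrank_tan hsa') (bH 0).2 (bH 1).2 (bH 2).2
    have key : ∀ i, φ₁ (h i) = (if i = 0 then 1 else 0) ∧ φ₂ (h i) = (if i = 1 then 1 else 0) ∧
        φ₃ (h i) = if i = 2 then 1 else 0 := fun i => by
      have e := hφ (h i) (bH i).2
      have h' := Fintype.linearIndependent_iff.1 hli (fun j => ![φ₁ (h i), φ₂ (h i), φ₃ (h i)] j - if i = j then 1 else 0)
        (by simp [Fin.sum_univ_three, sub_smul]; fin_cases i <;> simp at e ⊢ <;> linear_combination (norm := module) -e)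
      have h0 := h' 0
      have h1 := h' 1
      have h2 := h' 2
      simp [sub_eq_zero] at h0 h1 h2
      exact ⟨h0, h1, h2⟩
    refine Fintype.linearIndependent_iff.2 fun c hcz i => ?_
    have h0 := congrArg (liftLin φ₁) hcz
    have h1 := congrArg (liftLin φ₂) hcz
    have h2 := congrArg (liftLin φ₃) hcz
    simp [Fin.sum_univ_three, liftLin_incl, key] at h0 h1 h2
    fin_cases i <;> assumption
  let L : (Fin 3 → K) →ₗ[K] V K := Fintype.linearCombination K fun i => incl (h i)
  have hmem : ∀ i, incl (h i) ∈ tan GK (incl a) := fun i => mem_tan.2 (by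
    rw [hc.T_incl, mem_tan.1 (bH i).2, map_zero])
  have hrange : LinearMap.range L = tan GK (incl a) := by
    rw [Fintype.range_linearCombination]
    refine Submodule.eq_of_le_of_finrank_eq (Submodule.span_le.2 ?_)
      (by rw [finrank_span_eq_card hliK, finrank_tan hsa, Fintype.card_fin])
    rintro _ ⟨i, rfl⟩; exact hmem i
  obtain ⟨hQ, hν⟩ := phi_not_in_plane (incl_ne_zero ha) hFa hsa hT
  let f : Option {ν // ν ∈ N} → (Fin 3 → K) → K := fun o x => match o with
    | none => GK.T (incl a) (L x) (L x)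
    | some ν => GK.F (L x) * ν.1 (incl a) - 3 * GK.T (incl a) (L x) (L x) * (ν.1.comp L) x
  obtain ⟨x, hx⟩ := exists_rational (k := k) Finset.univ f
    (fun o _ => match o with
      | none => isPoly_T₂ GK L _
      | some ν => ((isPoly_F GK L).mul (isPoly_const _)).sub (((isPoly_const _).mul (isPoly_T₂ GK L _)).mul (isPoly_lin _)))
    (fun o _ => by
      rcases o with _ | ν
      · obtain ⟨u, hu, hQu⟩ := hQ
        obtain ⟨x, rfl⟩ := hrange.ge hu
        exact ⟨x, hQu⟩
      · obtain ⟨u, hu, hne⟩ := hν ν.1 (hN ν.1 ν.2)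
        obtain ⟨x, rfl⟩ := hrange.ge hu
        refine ⟨x, ?_⟩
        simpa [f, phi, map_sub, map_smul] using hne)
  let u : V k := ∑ i, x i • h i
  have huK : incl u = L fun j => algebraMap k K (x j) := by
    ext j
    simp [u, L, Fintype.linearCombination_apply, incl, Finset.sum_apply, Algebra.smul_def]
  have huH : G.T a a u = 0 := by
    simp only [u, map_sum, map_smul]
    exact Finset.sum_eq_zero fun i _ => by rw [mem_tan.1 (bH i).2, smul_zero]
  have huH' : GK.T (incl a) (incl a) (incl u) = 0 := by rw [hc.T_incl, huH, map_zero]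
  have hne : GK.T (incl a) (incl u) (incl u) ≠ 0 := by
    rw [huK]; exact hx none (Finset.mem_univ _)
  refine ⟨phi G a u, F_phi G hFa' huH, ?_, ?_, fun ν hν' => ?_⟩
  · rw [hc.phi_incl]
    exact sub_mem (Submodule.smul_mem _ _ (self_mem_tan hFa)) (Submodule.smul_mem _ _ (mem_tan.2 huH'))
  · rw [hc.phi_incl]
    have e : GK.T (phi GK (incl a) (incl u)) (phi GK (incl a) (incl u)) (incl a) =
        9 * GK.T (incl a) (incl u) (incl u) ^ 3 := by
      simp only [phi, map_sub, map_smul, LinearMap.sub_apply, LinearMap.smul_apply, smul_eq_mul]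
      rw [show GK.T (incl a) (incl a) (incl a) = 0 from hFa, GK.symm₁₂ (incl u) (incl a) (incl a),
        GK.symm₂₃ (incl a) (incl u) (incl a), huH', GK.symm₁₃ (incl u) (incl u) (incl a)]
      ring
    rw [e]
    exact mul_ne_zero (by norm_num) (pow_ne_zero _ hne)
  · have h := hx (some ⟨ν, hν'⟩) (Finset.mem_univ _)
    simp only [f, LinearMap.comp_apply, ← huK] at h
    rw [hc.phi_incl, phi, map_sub, map_smul, map_smul]
    exact h

theorem exists_avoid [Infinite k] (hc : Compat G GK) (hirr : Irr GK) (hcone : NoCone GK)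
    (𝓛 : Set (Submodule K (V K))) (hfin : 𝓛.Finite)
    (hdim : ∀ U ∈ 𝓛, IsLine GK U)
    (hbad : ∀ a, a ≠ 0 → GK.F a = 0 → GK.T a a ≠ 0 → ¬ Union3 GK (tan GK a) → ∀ b, IsT GK b →
      ∃ U ∈ 𝓛, b ∈ U ∧ ¬ U ≤ tan GK a)
    {a : V k} (ha : a ≠ 0) (hFa : G.F a = 0) (hT : ¬ IsT GK (incl a))
    (M : Finset (V K →ₗ[K] K)) (hM : ∀ μ ∈ M, μ ≠ 0) :
    ∃ p : V k, G.F p = 0 ∧ ∀ μ ∈ M, μ (incl p) ≠ 0 := by
  classical
  have hFa' : GK.F (incl a) = 0 := by rw [hc.F_incl, hFa, map_zero]
  by_cases hsa : GK.T (incl a) (incl a) = 0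
  · -- a singular point: the surface is parametrised
    let L : (Fin 4 → K) →ₗ[K] V K := LinearMap.id
    obtain ⟨x, hx⟩ := exists_rational (k := k) M
      (fun μ x => GK.F (L x) * μ (incl a) - 3 * GK.T (incl a) (L x) (L x) * (μ.comp L) x)
      (fun μ _ => ((isPoly_F GK L).mul (isPoly_const _)).sub
        (((isPoly_const _).mul (isPoly_T₂ GK L _)).mul (isPoly_lin _)))
      (fun μ hμ => by
        by_contra! hall
        rcases eq_or_ne (μ (incl a)) 0 with h0 | h0
        · rcases IsPoly.eq_zero_of_mul (isPoly_T₂ GK L (incl a)) (isPoly_lin μ) (fun t => by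
            have h := hall t
            simp only [h0] at h
            show GK.T (incl a) t t * μ t = 0
            linear_combination (-1 / 3 : K) * h) with h | h
          · refine hcone (incl a) (incl_ne_zero ha) (LinearMap.ext fun v => LinearMap.ext fun w => ?_)
            have e1 := h (v + w)
            have e2 : GK.T (incl a) v v = 0 := h v
            have e3 : GK.T (incl a) w w = 0 := h w
            simp only [L, LinearMap.id_apply, map_add, LinearMap.add_apply, e2, e3, GK.symm₂₃ (incl a) w v] at e1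
            have : 2 * GK.T (incl a) v w = 0 := by linear_combination e1
            simpa using this
          · exact hM μ hμ (LinearMap.ext h)
        · refine hirr ((3 / μ (incl a)) • μ) (GK.T (incl a)) fun v => ?_
          have h := hall v
          simp only [L, LinearMap.id_apply, LinearMap.comp_apply] at h
          simp only [LinearMap.smul_apply, smul_eq_mul]
          field_simp
          linear_combination h)
    have hsa' : G.T a a x = 0 := (algebraMap k K).injective (by rw [← hc.T_incl, hsa]; simp)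
    refine ⟨phi G a x, F_phi G hFa hsa', fun μ hμ => ?_⟩
    rw [hc.phi_incl, phi, map_sub, map_smul, map_smul]
    exact hx μ hμ
  · have hT' : ¬ Union3 GK (tan GK (incl a)) := fun h => hT ⟨incl_ne_zero ha, hFa', hsa, h⟩
    -- functionals killing the T-points in the tangent plane
    have hsep : ∀ U : Submodule K (V K), ¬ U ≤ tan GK (incl a) → finrank K U ≤ 2 →
        ∃ ν : V K →ₗ[K] K, (∃ h ∈ tan GK (incl a), ν h ≠ 0) ∧ ∀ v ∈ U ⊓ tan GK (incl a), ν v = 0 := by
      intro U hU hU2
      obtain ⟨h₀, hh₀, hh₀'⟩ : ∃ h ∈ tan GK (incl a), h ∉ U ⊓ tan GK (incl a) := by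
        by_contra! hall
        have h1 := Submodule.finrank_mono (le_trans (show tan GK (incl a) ≤ U ⊓ tan GK (incl a) from hall) inf_le_left)
        rw [finrank_tan hsa] at h1
        omega
      obtain ⟨ν, hν, hν'⟩ := Submodule.exists_dual_map_eq_bot_of_notMem hh₀' inferInstance
      exact ⟨ν, ⟨h₀, hh₀, hν⟩, fun v hv => (Submodule.mem_bot K).1 (hν' ▸ Submodule.mem_map_of_mem hv)⟩
    choose ν hν₁ hν₂ using hsep
    let S := hfin.toFinset.filter fun U => ¬ U ≤ tan GK (incl a) ∧ finrank K U ≤ 2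
    let N : Finset (V K →ₗ[K] K) := (M.filter fun μ => μ (incl a) ≠ 0) ∪
      S.attach.image fun U => ν U.1 (Finset.mem_filter.1 U.2).2.1 (Finset.mem_filter.1 U.2).2.2
    obtain ⟨b, hb, hbH, hba, hbN⟩ := exists_param hc ha hFa' hsa hT' N (fun μ hμ => by
      rcases Finset.mem_union.1 hμ with h | h
      · exact ⟨incl a, self_mem_tan hFa', (Finset.mem_filter.1 h).2⟩
      · obtain ⟨U, -, rfl⟩ := Finset.mem_image.1 h
        exact hν₁ _ _ _)
    have hsb : GK.T (incl b) (incl b) ≠ 0 := fun h => hba (by rw [h]; rfl)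
    have hb0 : b ≠ 0 := fun h => hba (by rw [h]; simp [show incl (K := K) (0 : V k) = 0 from funext fun _ => map_zero _])
    have hFb : GK.F (incl b) = 0 := by rw [hc.F_incl, hb, map_zero]
    have hTb : ¬ Union3 GK (tan GK (incl b)) := fun h => by
      obtain ⟨U, hU, hbU, hle⟩ := hbad _ (incl_ne_zero ha) hFa' hsa hT' _ ⟨incl_ne_zero hb0, hFb, hsb, h⟩
      have hUS : U ∈ S := Finset.mem_filter.2 ⟨hfin.mem_toFinset.2 hU, hle, (hdim U hU).1.le⟩
      exact hbN _ (Finset.mem_union_right _ (Finset.mem_image.2 ⟨⟨U, hUS⟩, Finset.mem_attach _ _, rfl⟩))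
        (hν₂ U hle (hdim U hU).1.le _ ⟨hbU, hbH⟩)
    obtain ⟨p, hp, -, -, hpM⟩ := exists_param hc hb0 hFb hsb hTb M (fun μ hμ => by
      by_cases hμa : μ (incl a) = 0
      · by_contra! hall
        -- the tangent plane at `b` would contain `a`
        have hle : tan GK (incl b) ≤ LinearMap.ker μ := hall
        have h3 : finrank K (LinearMap.ker μ) ≤ 3 := by
          have h := Submodule.finrank_lt (s := LinearMap.ker μ) fun h => hM μ hμ (LinearMap.ker_eq_top.1 h)
          simp only [Module.finrank_fin_fun] at h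
          omega
        have he := Submodule.eq_of_le_of_finrank_le hle (by rw [finrank_tan hsb]; exact h3)
        exact hba (mem_tan.1 (he.ge hμa))
      · exact ⟨incl b, self_mem_tan hFb, hbN μ (Finset.mem_union_left _ (Finset.mem_filter.2 ⟨hμ, hμa⟩))⟩)
    exact ⟨p, hp, hpM⟩

end Groth.Agent.Cubic70
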