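import Groth.Agent.Cubic70.Finiteness

/-!
# From polynomials to trilinear forms
-/

universe u

namespace Groth.Agent.Cubic70

open Module CubicLib MvPolynomial

variable {K : Type u} [Field K]

/-- The tangent form of `F` at `b`. -/
noncomputable def tanForm (F : MvPolynomial (Fin 4) K) (b : V K) : MvPolynomial (Fin 4) K :=
  ∑ i : Fin 4, C (eval b (pderiv i F)) * X i

/-- `G` is the trilinear form of `F`. -/
structure IsForm (F : MvPolynomial (Fin 4) K) (G : Cubic K (V K)) : Prop where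
  eval_eq : ∀ v, eval v F = G.F v
  deriv_eq : ∀ v i, eval v (pderiv i F) = 3 * G.T v v (Pi.single i 1)

/-- A linear functional as a linear form. -/
noncomputable def ofLin (l : V K →ₗ[K] K) : MvPolynomial (Fin 4) K := ∑ i, C (l (Pi.single i 1)) * X i

theorem ofLin_isHomogeneous (l : V K →ₗ[K] K) : (ofLin l).IsHomogeneous 1 :=
  IsHomogeneous.sum _ _ _ fun i _ => by simpa using (isHomogeneous_C (Fin 4) (l (Pi.single i 1))).mul (isHomogeneous_X K i)

theorem eval_ofLin (l : V K →ₗ[K] K) (v : V K) : eval v (ofLin l) = l v := by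
  conv_rhs => rw [pi_eq_sum_univ' v, map_sum]
  simp only [ofLin, map_sum, map_mul, eval_C, eval_X, map_smul, smul_eq_mul]
  exact Finset.sum_congr rfl fun i _ => mul_comm _ _

theorem exists_lin {L : MvPolynomial (Fin 4) K} (hL : L.IsHomogeneous 1) : ∃ l : V K →ₗ[K] K, ∀ v, eval v L = l v := by
  obtain ⟨c, l, h⟩ := exists_affine L hL.totalDegree_le
  have hc : c = 0 := by
    have h0 := h 0
    rw [map_zero, add_zero] at h0
    rw [← h0]
    show eval (fun _ : Fin 4 => (0 : K)) L = 0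
    rw [show eval (fun _ : Fin 4 => (0 : K)) L = coeff 0 L by rw [← constantCoeff_eq]; exact congr($(eval_zero') L)]
    exact hL.coeff_eq_zero (by simp)
  exact ⟨l, fun v => by rw [h, hc, zero_add]⟩

theorem mem_span_of_vanishes [Infinite K] {L p : MvPolynomial (Fin 4) K} (hL : L.IsHomogeneous 1) (hL0 : L ≠ 0)
    (h : ∀ v, eval v L = 0 → eval v p = 0) : p ∈ Ideal.span {L} := by
  classical
  obtain ⟨l, hl⟩ := exists_lin hL
  obtain ⟨i, hi⟩ : ∃ i, l (Pi.single i 1) ≠ 0 := by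
    by_contra! hall
    refine hL0 (MvPolynomial.funext fun v => ?_)
    rw [hl, map_zero, pi_eq_sum_univ' v, map_sum]
    exact Finset.sum_eq_zero fun j _ => by rw [map_smul, hall, smul_zero]
  let π : Fin 4 → MvPolynomial (Fin 4) K := fun j => X j - C ((Pi.single i (l (Pi.single i 1))⁻¹ : V K) j) * L
  have h0 : aeval π p = 0 := MvPolynomial.funext fun v => by
    rw [map_zero, aeval_def, algebraMap_eq, eval₂_comp_left (eval v)]
    rw [show (eval v).comp C = RingHom.id K from RingHom.ext fun c => eval_C c]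
    show eval (eval v ∘ π) p = 0
    refine h _ ?_
    have e : (eval v ∘ π : V K) = v - l v • Pi.single i (l (Pi.single i 1))⁻¹ := by
      funext j; simp [π, hl]; ring
    rw [hl, e, map_sub, map_smul, show (Pi.single i (l (Pi.single i 1))⁻¹ : V K) = (l (Pi.single i 1))⁻¹ • Pi.single i 1 by
      rw [← Pi.single_smul, smul_eq_mul, mul_one], map_smul, smul_eq_mul, smul_eq_mul, inv_mul_cancel₀ hi, mul_one, sub_self]
  rw [← Ideal.Quotient.eq_zero_iff_mem]
  have e : (Ideal.Quotient.mkₐ K (Ideal.span {L})).comp (aeval π) = Ideal.Quotient.mkₐ K (Ideal.span {L}) :=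
    algHom_ext fun j => by
      simp only [AlgHom.comp_apply, aeval_X, π, Ideal.Quotient.mkₐ_eq_mk, map_sub, sub_eq_self]
      exact Ideal.Quotient.eq_zero_iff_mem.2 (Ideal.mul_mem_left _ _ (Ideal.mem_span_singleton_self L))
  rw [← Ideal.Quotient.mkₐ_eq_mk K, ← e, AlgHom.comp_apply, h0, map_zero]

variable [CharZero K] {F : MvPolynomial (Fin 4) K} {G : Cubic K (V K)}

theorem exists_form (hF : F.IsHomogeneous 3) : ∃ G : Cubic K (V K), IsForm F G := by
  obtain ⟨G, h1, h2, -⟩ := exists_cubic F hF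
  exact ⟨G, h1, h2⟩

theorem IsForm.eval_tanForm (h : IsForm F G) (b v : V K) : eval v (tanForm F b) = 3 * G.T b b v := by
  conv_rhs => rw [pi_eq_sum_univ' v, map_sum, Finset.mul_sum]
  simp only [tanForm, map_sum, map_mul, eval_C, eval_X, h.deriv_eq, map_smul, smul_eq_mul]
  exact Finset.sum_congr rfl fun i _ => by ring

theorem IsForm.mem_tan_iff (h : IsForm F G) (b v : V K) : v ∈ tan G b ↔ eval v (tanForm F b) = 0 := by
  rw [h.eval_tanForm, mul_eq_zero, mem_tan]
  simp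

theorem IsForm.smooth_iff (h : IsForm F G) (b : V K) : (∃ i, eval b (pderiv i F) ≠ 0) ↔ G.T b b ≠ 0 := by
  refine ⟨fun ⟨i, hi⟩ he => hi (by rw [h.deriv_eq, he]; simp), fun hne => ?_⟩
  by_contra! hall
  refine hne (LinearMap.ext fun v => ?_)
  rw [pi_eq_sum_univ' v, map_sum, LinearMap.zero_apply]
  refine Finset.sum_eq_zero fun i _ => ?_
  have := hall i
  rw [h.deriv_eq, mul_eq_zero] at this
  rw [map_smul, this.resolve_left three_ne_zero, smul_zero]

theorem IsForm.tanForm_eq_zero_iff (h : IsForm F G) (b : V K) : tanForm F b = 0 ↔ G.T b b = 0 := by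
  refine ⟨fun he => LinearMap.ext fun v => ?_, fun he => MvPolynomial.funext fun v => ?_⟩
  · have := h.eval_tanForm b v
    rw [he, map_zero] at this
    simpa using this.symm
  · rw [h.eval_tanForm, he]; simp

theorem IsForm.union3_iff (h : IsForm F G) {b : V K} (hb : G.T b b ≠ 0) :
    Union3 G (tan G b) ↔ ∃ L₁ L₂ L₃ : MvPolynomial (Fin 4) K, L₁.IsHomogeneous 1 ∧ L₂.IsHomogeneous 1 ∧
      L₃.IsHomogeneous 1 ∧ F - L₁ * L₂ * L₃ ∈ Ideal.span {tanForm F b} := by
  constructor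
  · rintro ⟨l₁, l₂, l₃, hl⟩
    refine ⟨ofLin l₁, ofLin l₂, ofLin l₃, ofLin_isHomogeneous _, ofLin_isHomogeneous _, ofLin_isHomogeneous _, ?_⟩
    refine mem_span_of_vanishes ?_ (fun he => hb ((h.tanForm_eq_zero_iff b).1 he)) fun v hv => ?_
    · exact IsHomogeneous.sum _ _ _ fun i _ => by
        simpa using (isHomogeneous_C (Fin 4) (eval b (pderiv i F))).mul (isHomogeneous_X K i)
    · rw [map_sub, map_mul, map_mul, eval_ofLin, eval_ofLin, eval_ofLin, h.eval_eq,
        hl v ((h.mem_tan_iff b v).2 hv), sub_self]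
  · rintro ⟨L₁, L₂, L₃, h₁, h₂, h₃, hm⟩
    obtain ⟨l₁, e₁⟩ := exists_lin h₁
    obtain ⟨l₂, e₂⟩ := exists_lin h₂
    obtain ⟨l₃, e₃⟩ := exists_lin h₃
    refine ⟨l₁, l₂, l₃, fun v hv => ?_⟩
    obtain ⟨q, hq⟩ := Ideal.mem_span_singleton'.1 hm
    have := congrArg (eval v) hq
    rw [map_mul, (h.mem_tan_iff b v).1 hv, mul_zero, map_sub, map_mul, map_mul, e₁, e₂, e₃, h.eval_eq] at this
    exact sub_eq_zero.1 this.symm

theorem IsForm.isT_iff (h : IsForm F G) (b : V K) :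
    IsT G b ↔ b ≠ 0 ∧ eval b F = 0 ∧ (∃ i : Fin 4, eval b (pderiv i F) ≠ 0) ∧
      ∃ L₁ L₂ L₃ : MvPolynomial (Fin 4) K, L₁.IsHomogeneous 1 ∧ L₂.IsHomogeneous 1 ∧ L₃.IsHomogeneous 1 ∧
        F - L₁ * L₂ * L₃ ∈ Ideal.span {tanForm F b} := by
  rw [IsT, h.eval_eq, h.smooth_iff]
  exact and_congr_right fun _ => and_congr_right fun _ => and_congr_right fun hne => h.union3_iff hne

theorem IsForm.irr (h : IsForm F G) (hirr : Irreducible F) : Irr G := fun L B hLB => by
  let PB : MvPolynomial (Fin 4) K := ∑ i, ∑ j, C (B (Pi.single i 1) (Pi.single j 1)) * X i * X j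
  have hB : ∀ v, eval v PB = B v v := fun v => by
    conv_rhs => rw [pi_eq_sum_univ' v]
    simp only [PB, map_sum, map_mul, eval_C, eval_X, map_smul, LinearMap.sum_apply, LinearMap.smul_apply, smul_eq_mul,
      Finset.mul_sum]
    rw [Finset.sum_comm]
    exact Finset.sum_congr rfl fun i _ => Finset.sum_congr rfl fun j _ => by ring
  have hF' : F = ofLin L * PB := MvPolynomial.funext fun v => by rw [map_mul, eval_ofLin, hB, h.eval_eq, hLB]
  rcases hirr.isUnit_or_isUnit hF' with hu | hu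
  · simpa [ofLin] using hu.map (eval (0 : Fin 4 → K))
  · simpa [PB] using hu.map (eval (0 : Fin 4 → K))

theorem IsForm.eval_polar (h : IsForm F G) (a v : V K) :
    eval v (∑ i : Fin 4, a i • pderiv i F) = 3 * G.T v v a := by
  conv_rhs => rw [pi_eq_sum_univ' a, map_sum, Finset.mul_sum]
  simp only [map_sum, smul_eval, h.deriv_eq, map_smul, smul_eq_mul]
  exact Finset.sum_congr rfl fun i _ => by ring

theorem IsForm.noCone (h : IsForm F G)
    (hcone : ¬ ∃ v : Fin 4 → K, v ≠ 0 ∧ ∑ i : Fin 4, v i • pderiv i F = 0) : NoCone G := fun a ha hT =>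
  hcone ⟨a, ha, MvPolynomial.funext fun v => by rw [h.eval_polar, G.symm₁₃, hT]; simp⟩

variable [IsAlgClosed K]

theorem IsForm.exists_badLines (h : IsForm F G) (hirr : Irreducible F)
    (hcone : ¬ ∃ v : Fin 4 → K, v ≠ 0 ∧ ∑ i : Fin 4, v i • pderiv i F = 0) :
    ∃ 𝓛 : Set (Submodule K (V K)), 𝓛.Finite ∧ (∀ U ∈ 𝓛, IsLine G U) ∧ (∀ b, IsT G b → ∃ U ∈ 𝓛, b ∈ U) ∧
      ∀ a, a ≠ 0 → G.F a = 0 → G.T a a ≠ 0 → ¬ Union3 G (tan G a) → ∀ b, IsT G b →
        ∃ U ∈ 𝓛, b ∈ U ∧ ¬ U ≤ tan G a :=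
  Cubic70.exists_badLines (h.irr hirr) (h.noCone hcone) F h.eval_eq h.deriv_eq

/-- T-points in the tangent plane at a point which is not one form finitely many lines of vectors. -/
theorem finite_T_in_plane (hirr : Irr G) (𝓛 : Set (Submodule K (V K))) (hfin : 𝓛.Finite)
    (hdim : ∀ U ∈ 𝓛, IsLine G U) {H : Submodule K (V K)} (hH : finrank K H = 3)
    (hcov : ∀ b, IsT G b → ∃ U ∈ 𝓛, b ∈ U ∧ ¬ U ≤ H) :
    {W : Submodule K (V K) | finrank K W = 1 ∧ W ≤ H ∧ ∀ b ∈ W, b ≠ 0 → IsT G b}.Finite := by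
  refine (hfin.image fun U => U ⊓ H).subset ?_
  rintro W ⟨hW, hWH, hWT⟩
  obtain ⟨b, hb, hb0⟩ := Submodule.exists_mem_ne_zero_of_ne_bot (p := W) (by
    rintro rfl; simp at hW)
  obtain ⟨U, hU, hbU, hle⟩ := hcov b (hWT b hb hb0)
  refine ⟨U, hU, (Submodule.eq_of_le_of_finrank_le ?_ ?_).symm⟩
  · intro w hw
    obtain ⟨c, rfl⟩ := (finrank_eq_one_iff_of_nonzero' (⟨b, hb⟩ : W) (by simpa [Subtype.ext_iff] using hb0)).1 hW ⟨w, hw⟩
      |>.imp fun c hc => congrArg Subtype.val hc.symm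
    exact ⟨U.smul_mem c hbU, H.smul_mem c (hWH hb)⟩
  · have := Submodule.finrank_lt_finrank_of_lt (lt_of_le_of_ne (inf_le_left (a := U) (b := H)) fun h => hle (h ▸ inf_le_right))
    have h2 : finrank K U = 2 := (hdim U hU).1
    show finrank K ↥(U ⊓ H) ≤ finrank K W
    omega

end Groth.Agent.Cubic70
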