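import Groth.Agent.Cubic70.Basic

/-!
# Finitely many lines avoiding the singular points
-/

universe u

namespace Groth.Agent.Cubic70

open Module CubicLib MvPolynomial

variable {K : Type u} [Field K]

/-- Two binary quadratic forms without common zero have no linear syzygy. -/
theorem binary_inj [IsAlgClosed K] {a₀ a₁ a₂ b₀ b₁ b₂ l₀ l₁ m₀ m₁ : K}
    (hAB : ∀ s t : K, a₀ * s ^ 2 + a₁ * s * t + a₂ * t ^ 2 = 0 → b₀ * s ^ 2 + b₁ * s * t + b₂ * t ^ 2 = 0 → s = 0 ∧ t = 0)
    (h0 : l₀ * a₀ + m₀ * b₀ = 0) (h1 : l₀ * a₁ + l₁ * a₀ + m₀ * b₁ + m₁ * b₀ = 0)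
    (h2 : l₀ * a₂ + l₁ * a₁ + m₀ * b₂ + m₁ * b₁ = 0) (h3 : l₁ * a₂ + m₁ * b₂ = 0) :
    l₀ = 0 ∧ l₁ = 0 ∧ m₀ = 0 ∧ m₁ = 0 := by
  obtain ⟨p, q, r, w, rfl, rfl, rfl⟩ := exists_quad_factor a₀ a₁ a₂
  have hA : ¬ (∀ s t : K, p * r * s ^ 2 + (p * w + q * r) * s * t + q * w * t ^ 2 = 0) := by
    intro hz
    obtain ⟨p', q', r', w', rfl, rfl, rfl⟩ := exists_quad_factor b₀ b₁ b₂
    rcases eq_or_ne p' 0 with rfl | hp'
    · exact one_ne_zero (hAB 1 0 (hz 1 0) (by ring)).1
    · exact hp' (neg_eq_zero.1 (hAB q' (-p') (hz _ _) (by ring)).2)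
  have hpq : p ≠ 0 ∨ q ≠ 0 := by
    by_contra! h; obtain ⟨rfl, rfl⟩ := h; exact hA fun s t => by ring
  have hrw : r ≠ 0 ∨ w ≠ 0 := by
    by_contra! h; obtain ⟨rfl, rfl⟩ := h; exact hA fun s t => by ring
  have hB : ∀ s t : K, (s ≠ 0 ∨ t ≠ 0) → p * r * s ^ 2 + (p * w + q * r) * s * t + q * w * t ^ 2 = 0 →
      b₀ * s ^ 2 + b₁ * s * t + b₂ * t ^ 2 ≠ 0 := fun s t hst hAz hBz => by
    obtain ⟨rfl, rfl⟩ := hAB s t hAz hBz; simp at hst
  have hMz : m₀ * q + m₁ * (-p) = 0 := by
    have h : (m₀ * q + m₁ * (-p)) * (b₀ * q ^ 2 + b₁ * q * (-p) + b₂ * (-p) ^ 2) = 0 := by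
      linear_combination q ^ 3 * h0 - q ^ 2 * p * h1 + q * p ^ 2 * h2 - p ^ 3 * h3
    refine (mul_eq_zero.1 h).resolve_right (hB q (-p) ?_ (by ring))
    rcases hpq with h' | h'
    · exact Or.inr (neg_ne_zero.2 h')
    · exact Or.inl h'
  obtain ⟨e, rfl, rfl⟩ : ∃ e, m₀ = e * p ∧ m₁ = e * q := by
    rcases eq_or_ne p 0 with rfl | hp
    · have hq : q ≠ 0 := hpq.resolve_left (by simp)
      exact ⟨m₁ / q, by simp only [neg_zero, mul_zero, add_zero, mul_eq_zero, or_iff_left hq] at hMz; simp [hMz],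
        by field_simp⟩
    · exact ⟨m₀ / p, by field_simp, by field_simp; linear_combination -hMz⟩
  obtain ⟨c0, c1, c2⟩ : l₀ * r + e * b₀ = 0 ∧ l₀ * w + l₁ * r + e * b₁ = 0 ∧ l₁ * w + e * b₂ = 0 := by
    have k0 : p * (l₀ * r + e * b₀) = 0 := by linear_combination h0
    have k1 : q * (l₀ * r + e * b₀) + p * (l₀ * w + l₁ * r + e * b₁) = 0 := by linear_combination h1
    have k2 : q * (l₀ * w + l₁ * r + e * b₁) + p * (l₁ * w + e * b₂) = 0 := by linear_combination h2
    have k3 : q * (l₁ * w + e * b₂) = 0 := by linear_combination h3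
    rcases eq_or_ne p 0 with rfl | hp
    · have hq : q ≠ 0 := hpq.resolve_left (by simp)
      simp only [zero_mul, add_zero, mul_eq_zero, hq, false_or] at k1 k2 k3
      exact ⟨k1, k2, k3⟩
    · have e0 := (mul_eq_zero.1 k0).resolve_left hp
      rw [e0, mul_zero, zero_add] at k1
      have e1 := (mul_eq_zero.1 k1).resolve_left hp
      rw [e1, mul_zero, zero_add] at k2
      exact ⟨e0, e1, (mul_eq_zero.1 k2).resolve_left hp⟩
  have he : e = 0 := by
    have h : e * (b₀ * w ^ 2 + b₁ * w * (-r) + b₂ * (-r) ^ 2) = 0 := by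
      linear_combination w ^ 2 * c0 - r * w * c1 + r ^ 2 * c2
    refine (mul_eq_zero.1 h).resolve_right (hB w (-r) ?_ (by ring))
    rcases hrw with h' | h'
    · exact Or.inr (neg_ne_zero.2 h')
    · exact Or.inl h'
  subst he
  simp only [zero_mul, add_zero] at c0 c1 c2 ⊢
  rcases eq_or_ne r 0 with rfl | hr
  · have hw : w ≠ 0 := hrw.resolve_left (by simp)
    simp only [mul_zero, add_zero, mul_eq_zero, hw, or_false] at c1 c2
    exact ⟨c1, c2, trivial, trivial⟩
  · have e0 := (mul_eq_zero.1 c0).resolve_right hr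
    subst e0
    simp only [zero_mul, zero_add, mul_eq_zero, hr, or_false] at c1
    exact ⟨rfl, c1, trivial, trivial⟩

theorem taylor {σ τ : Type*} [Fintype σ] (m : Ideal (MvPolynomial τ K)) (v : σ → K)
    (δ : σ → MvPolynomial τ K) (hδ : ∀ l, δ l ∈ m) (f : MvPolynomial σ K) :
    aeval (fun l => C (v l) + δ l) f - (C (eval v f) + ∑ l, C (eval v (pderiv l f)) * δ l) ∈ m * m := by
  classical
  induction f using MvPolynomial.induction_on with
  | C c => simp
  | add p q hp hq =>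
    convert add_mem hp hq using 1
    simp only [map_add, add_mul, Finset.sum_add_distrib]
    ring
  | mul_X p i hp =>
    have hi : ∑ l, C (eval v (pderiv l (p * X i))) * δ l =
        C (v i) * ∑ l, C (eval v (pderiv l p)) * δ l + C (eval v p) * δ i := by
      simp only [pderiv_mul, pderiv_X, map_add, map_mul, eval_X, Pi.single_apply, add_mul, Finset.sum_add_distrib]
      congr 1
      · rw [Finset.mul_sum]; exact Finset.sum_congr rfl fun l _ => by ring
      · rw [Finset.sum_eq_single i] <;> simp +contextual [eq_comm]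
    have hs : (∑ l, C (eval v (pderiv l p)) * δ l) ∈ m :=
      Ideal.sum_mem _ fun l _ => Ideal.mul_mem_left _ _ (hδ l)
    convert add_mem (Ideal.mul_mem_right (C (v i) + δ i) _ hp) (Ideal.mul_mem_mul hs (hδ i)) using 1
    simp only [map_mul, aeval_X, hi, eval_X]
    ring

/-- The pairs of coefficients used to test a cubic on a line. -/
def prs : Fin 4 → K × K := ![(1, 0), (0, 1), (1, 1), (1, -1)]

/-- The first spanning vector of a chart. -/
def cu (σ : Equiv.Perm (Fin 4)) (q : V K) : V K :=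
  Pi.single (σ 0) 1 + q 0 • Pi.single (σ 2) 1 + q 1 • Pi.single (σ 3) 1

/-- The second spanning vector of a chart. -/
def cv (σ : Equiv.Perm (Fin 4)) (q : V K) : V K :=
  Pi.single (σ 1) 1 + q 2 • Pi.single (σ 2) 1 + q 3 • Pi.single (σ 3) 1

theorem chart_coords (σ : Equiv.Perm (Fin 4)) (q : V K) (s t : K) :
    (s • cu σ q + t • cv σ q) (σ 0) = s ∧ (s • cu σ q + t • cv σ q) (σ 1) = t := by
  simp [cu, cv]

theorem chart_li (σ : Equiv.Perm (Fin 4)) (q : V K) : LinearIndependent K ![cu σ q, cv σ q] :=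
  LinearIndependent.pair_iff.2 fun s t h => by
    have h' := chart_coords σ q s t
    rw [h] at h'
    simpa [eq_comm] using h'

theorem chart_top (σ : Equiv.Perm (Fin 4)) (q : V K) (i : Fin 4) :
    Pi.single (σ i) 1 ∈ Submodule.span K {cu σ q, cv σ q} ⊔
      Submodule.span K {(Pi.single (σ 2) 1 : V K), Pi.single (σ 3) 1} := by
  have hu : cu σ q ∈ Submodule.span K {cu σ q, cv σ q} := Submodule.subset_span (Or.inl rfl)
  have hv : cv σ q ∈ Submodule.span K {cu σ q, cv σ q} := Submodule.subset_span (Or.inr rfl)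
  fin_cases i
  · refine Submodule.mem_sup.2 ⟨_, hu, -(q 0 • Pi.single (σ 2) 1 + q 1 • Pi.single (σ 3) 1), ?_, by simp [cu]⟩
    exact neg_mem (Submodule.mem_span_pair.2 ⟨_, _, rfl⟩)
  · refine Submodule.mem_sup.2 ⟨_, hv, -(q 2 • Pi.single (σ 2) 1 + q 3 • Pi.single (σ 3) 1), ?_, by simp [cv]⟩
    exact neg_mem (Submodule.mem_span_pair.2 ⟨_, _, rfl⟩)
  · exact Submodule.mem_sup_right (Submodule.subset_span (Or.inl rfl))
  · exact Submodule.mem_sup_right (Submodule.subset_span (Or.inr rfl))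

theorem exists_chart {U : Submodule K (V K)} (hU : finrank K U = 2) :
    ∃ (σ : Equiv.Perm (Fin 4)) (q : V K), U = Submodule.span K {cu σ q, cv σ q} := by
  classical
  have hmiss : ∀ W : Submodule K (V K), W ≠ ⊤ → ∃ m : Fin 4, Pi.single m 1 ∉ W := fun W hW => by
    by_contra! h
    refine hW (eq_top_iff.2 fun v _ => ?_)
    rw [pi_eq_sum_univ' v]
    exact Submodule.sum_mem _ fun i _ => Submodule.smul_mem _ _ (h i)
  obtain ⟨m, hm⟩ := hmiss U fun h => by rw [h, finrank_top, Module.finrank_fin_fun] at hU; omega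
  let W := U ⊔ Submodule.span K {(Pi.single m 1 : V K)}
  have hW : finrank K W ≤ 3 := by
    have h1 := Submodule.finrank_sup_add_finrank_inf_eq U (Submodule.span K {(Pi.single m 1 : V K)})
    have h2 := finrank_span_singleton (K := K) (v := (Pi.single m 1 : V K)) (by simp)
    show finrank K ↥(U ⊔ Submodule.span K {(Pi.single m 1 : V K)}) ≤ 3
    simp only [V] at *
    omega
  obtain ⟨n, hn⟩ := hmiss W fun h => by rw [h, finrank_top, Module.finrank_fin_fun] at hW; omega
  have hmn : m ≠ n := fun h => hn (h ▸ Submodule.mem_sup_right (Submodule.mem_span_singleton_self _))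
  have key : ∀ a b : Fin 4, a ≠ b → ∃ σ : Equiv.Perm (Fin 4), σ 2 = a ∧ σ 3 = b := by decide
  obtain ⟨σ, h2, h3⟩ := key m n hmn
  subst h2 h3
  have hd : U ⊔ Submodule.span K {(Pi.single (σ 2) 1 : V K), Pi.single (σ 3) 1} = ⊤ := by
    refine Submodule.eq_top_of_finrank_eq (le_antisymm (Submodule.finrank_le _) ?_)
    have h1 : U < W := lt_of_le_of_ne le_sup_left fun h => hm (h.ge (Submodule.mem_sup_right (Submodule.mem_span_singleton_self _)))
    have h2 : W < U ⊔ Submodule.span K {(Pi.single (σ 2) 1 : V K), Pi.single (σ 3) 1} := by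
      refine lt_of_le_of_ne (sup_le_sup_left (Submodule.span_mono (by simp)) _) fun h => hn (h.ge ?_)
      exact Submodule.mem_sup_right (Submodule.subset_span (Or.inr rfl))
    have := Submodule.finrank_lt_finrank_of_lt h1
    have := Submodule.finrank_lt_finrank_of_lt h2
    rw [Module.finrank_fin_fun]
    omega
  have hsplit : ∀ i, ∃ a c : K, Pi.single i 1 + a • (Pi.single (σ 2) 1 : V K) + c • Pi.single (σ 3) 1 ∈ U := fun i => by
    obtain ⟨u, hu, z, hz, h⟩ := Submodule.mem_sup.1 (hd.ge (Submodule.mem_top : (Pi.single i 1 : V K) ∈ ⊤))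
    obtain ⟨a, c, rfl⟩ := Submodule.mem_span_pair.1 hz
    refine ⟨-a, -c, ?_⟩
    rw [← h]; convert hu using 1; module
  obtain ⟨a, c, h0⟩ := hsplit (σ 0)
  obtain ⟨b, d, h1⟩ := hsplit (σ 1)
  refine ⟨σ, ![a, c, b, d], eq_line ?_ ?_ hU (chart_li _ _)⟩
  · simpa [cu] using h0
  · simpa [cv] using h1

theorem cu_apply (σ : Equiv.Perm (Fin 4)) (q : V K) (l : Fin 4) : cu σ q l =
    (Pi.single (σ 0) 1 : V K) l + q 0 * (Pi.single (σ 2) 1 : V K) l + q 1 * (Pi.single (σ 3) 1 : V K) l := rfl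

theorem cv_apply (σ : Equiv.Perm (Fin 4)) (q : V K) (l : Fin 4) : cv σ q l =
    (Pi.single (σ 1) 1 : V K) l + q 2 * (Pi.single (σ 2) 1 : V K) l + q 3 * (Pi.single (σ 3) 1 : V K) l := rfl

theorem comb_apply (a b : K) (x y : V K) (l : Fin 4) : (a • x + b • y) l = a * x l + b * y l := rfl

/-- The line of a chart. -/
def chartLine (σ : Equiv.Perm (Fin 4)) (q : V K) : Submodule K (V K) := Submodule.span K {cu σ q, cv σ q}

/-- The point of the line with coordinates `(a, b)`, as a family of polynomials. -/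
noncomputable def chartP (σ : Equiv.Perm (Fin 4)) (a b : K) (l : Fin 4) : MvPolynomial (Fin 4) K :=
  C (a * (Pi.single (σ 0) 1 : V K) l + b * (Pi.single (σ 1) 1 : V K) l) +
    (C a * X 0 + C b * X 2) * C ((Pi.single (σ 2) 1 : V K) l) +
    (C a * X 1 + C b * X 3) * C ((Pi.single (σ 3) 1 : V K) l)

theorem eval_chartP (σ : Equiv.Perm (Fin 4)) (a b : K) (q : V K) (l : Fin 4) :
    eval q (chartP σ a b l) = (a • cu σ q + b • cv σ q) l := by
  show eval q (chartP σ a b l) = a * cu σ q l + b * cv σ q l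
  simp only [chartP, map_add, map_mul, eval_C, eval_X, cu_apply, cv_apply]
  ring

theorem chartP_sub (σ : Equiv.Perm (Fin 4)) (a b : K) (q : V K) (l : Fin 4) :
    chartP σ a b l - C ((a • cu σ q + b • cv σ q) l) =
      C ((Pi.single (σ 2) 1 : V K) l) * (C a * (X 0 - C (q 0)) + C b * (X 2 - C (q 2))) +
      C ((Pi.single (σ 3) 1 : V K) l) * (C a * (X 1 - C (q 1)) + C b * (X 3 - C (q 3))) := by
  rw [show (a • cu σ q + b • cv σ q) l = a * cu σ q l + b * cv σ q l from rfl, cu_apply, cv_apply]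
  simp only [chartP, map_add, map_mul]
  ring

variable [IsAlgClosed K] [CharZero K] {G : Cubic K (V K)}

omit [IsAlgClosed K] in
theorem linear_part_mem (f : MvPolynomial (Fin 4) K)
    (hG' : ∀ v i, eval v (pderiv i f) = 3 * G.T v v (Pi.single i 1)) (σ : Equiv.Perm (Fin 4)) (a b : K) (q : V K)
    (J : Ideal (MvPolynomial (Fin 4) K))
    (hm2 : RingHom.ker (eval q : _ →+* K) * RingHom.ker (eval q : _ →+* K) ≤ J)
    (hf : aeval (chartP σ a b) f ∈ J) (h0 : eval (a • cu σ q + b • cv σ q) f = 0) :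
    C (G.T (a • cu σ q + b • cv σ q) (a • cu σ q + b • cv σ q) (Pi.single (σ 2) 1)) *
        (C a * (X 0 - C (q 0)) + C b * (X 2 - C (q 2))) +
      C (G.T (a • cu σ q + b • cv σ q) (a • cu σ q + b • cv σ q) (Pi.single (σ 3) 1)) *
        (C a * (X 1 - C (q 1)) + C b * (X 3 - C (q 3))) ∈ J := by
  classical
  set v := a • cu σ q + b • cv σ q with hv
  have hδ : ∀ l, chartP σ a b l - C (v l) ∈ RingHom.ker (eval q : _ →+* K) := fun l => by
    rw [RingHom.mem_ker, map_sub, eval_C, eval_chartP, sub_self]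
  have h1 := taylor _ v _ hδ f
  rw [show (fun l => C (v l) + (chartP σ a b l - C (v l))) = chartP σ a b from
    funext fun l => add_sub_cancel _ _, h0, map_zero, zero_add] at h1
  have h2 := sub_mem hf (hm2 h1)
  rw [sub_sub_cancel] at h2
  have hc : ∀ e : Fin 4, ∑ l, C (eval v (pderiv l f)) * C ((Pi.single e 1 : V K) l) =
      (C (3 * G.T v v (Pi.single e 1)) : MvPolynomial (Fin 4) K) := fun e => by
    rw [Finset.sum_eq_single e]
    · simp [hG']
    · intro l _ hl; simp [Pi.single_eq_of_ne hl]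
    · simp
  simp only [hv, chartP_sub, mul_add (C (eval _ (pderiv _ f))), Finset.sum_add_distrib] at h2
  rw [← hv] at h2
  simp only [← mul_assoc, ← Finset.sum_mul] at h2
  rw [hc, hc] at h2
  have h4 := Ideal.mul_mem_left J (C (3 : K)⁻¹) h2
  have h5 : (C (3 : K)⁻¹ : MvPolynomial (Fin 4) K) * C 3 = 1 := by
    rw [← map_mul, inv_mul_cancel₀ (three_ne_zero : (3 : K) ≠ 0), map_one]
  convert h4 using 1
  simp only [map_mul, mul_add, ← mul_assoc, h5, one_mul]

theorem tangent_injective {σ : Equiv.Perm (Fin 4)} {q : V K} (hline : IsLine G (chartLine σ q))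
    (hreg : ∀ u ∈ chartLine σ q, u ≠ 0 → G.T u u ≠ 0) (Φ : V K →ₗ[K] V K)
    (hΦ : ∀ w r, Φ w r =
      G.T ((prs (K := K) r).1 • cu σ q + (prs (K := K) r).2 • cv σ q) ((prs (K := K) r).1 • cu σ q + (prs (K := K) r).2 • cv σ q)
          (Pi.single (σ 2) 1) * ((prs (K := K) r).1 * w 0 + (prs (K := K) r).2 * w 2) +
        G.T ((prs (K := K) r).1 • cu σ q + (prs (K := K) r).2 • cv σ q) ((prs (K := K) r).1 • cu σ q + (prs (K := K) r).2 • cv σ q)
          (Pi.single (σ 3) 1) * ((prs (K := K) r).1 * w 1 + (prs (K := K) r).2 * w 3)) :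
    Function.Injective Φ := (injective_iff_map_eq_zero Φ).2 fun w hw => by
    have hu : cu σ q ∈ chartLine σ q := Submodule.subset_span (Or.inl rfl)
    have hv : cv σ q ∈ chartLine σ q := Submodule.subset_span (Or.inr rfl)
    have hAq : ∀ (e : V K) (s t : K), G.T (s • cu σ q + t • cv σ q) (s • cu σ q + t • cv σ q) e =
        G.T (cu σ q) (cu σ q) e * s ^ 2 + 2 * G.T (cu σ q) (cv σ q) e * s * t + G.T (cv σ q) (cv σ q) e * t ^ 2 := by
      intro e s t
      simp only [map_add, map_smul, LinearMap.add_apply, LinearMap.smul_apply, smul_eq_mul]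
      rw [G.symm₁₂ (cv σ q) (cu σ q)]
      ring
    have hno : ∀ s t : K,
        G.T (cu σ q) (cu σ q) (Pi.single (σ 2) 1) * s ^ 2 +
          2 * G.T (cu σ q) (cv σ q) (Pi.single (σ 2) 1) * s * t + G.T (cv σ q) (cv σ q) (Pi.single (σ 2) 1) * t ^ 2 = 0 →
        G.T (cu σ q) (cu σ q) (Pi.single (σ 3) 1) * s ^ 2 +
          2 * G.T (cu σ q) (cv σ q) (Pi.single (σ 3) 1) * s * t + G.T (cv σ q) (cv σ q) (Pi.single (σ 3) 1) * t ^ 2 = 0 →
        s = 0 ∧ t = 0 := fun s t hA hB => by
      by_contra hne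
      have hmem : s • cu σ q + t • cv σ q ∈ chartLine σ q :=
        add_mem (Submodule.smul_mem _ _ hu) (Submodule.smul_mem _ _ hv)
      refine hreg _ hmem (fun h0 => hne ?_) (LinearMap.pi_ext' fun i => LinearMap.ext_ring ?_)
      · have h' := chart_coords σ q s t
        rw [h0] at h'
        simpa [eq_comm] using h'
      · obtain ⟨i, rfl⟩ := σ.surjective i
        simp only [LinearMap.comp_apply, LinearMap.zero_comp, LinearMap.zero_apply]
        have hker : Submodule.span K {cu σ q, cv σ q} ⊔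
            Submodule.span K {(Pi.single (σ 2) 1 : V K), Pi.single (σ 3) 1} ≤
              LinearMap.ker (G.T (s • cu σ q + t • cv σ q) (s • cu σ q + t • cv σ q)) := by
          refine sup_le (fun u hu' => G.T_eq_zero_of_F hline.2 hmem hmem hu') (Submodule.span_le.2 ?_)
          rintro x (rfl | rfl)
          · exact (hAq _ s t).trans hA
          · exact (hAq _ s t).trans hB
        exact hker (chart_top σ q i)
    have e : ∀ r, _ = (0 : K) := fun r => (hΦ w r).symm.trans (congrFun hw r)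
    have e0 := e 0
    have e1 := e 1
    have e2 := e 2
    have e3 := e 3
    simp only [hAq, prs, Matrix.cons_val_zero, Matrix.cons_val_one, Matrix.cons_val] at e0 e1 e2 e3
    have h : w 0 = 0 ∧ w 2 = 0 ∧ w 1 = 0 ∧ w 3 = 0 :=
      binary_inj hno (by linear_combination e0) (by linear_combination (1 / 2 : K) * e2 - (1 / 2 : K) * e3 - e1)
        (by linear_combination (1 / 2 : K) * e2 + (1 / 2 : K) * e3 - e0) (by linear_combination e1)
    funext i
    fin_cases i <;> simp [h]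

omit [IsAlgClosed K] [CharZero K] in
theorem mem_of_injective (Φ : V K →ₗ[K] V K) (hinj : Function.Injective Φ) (J : Ideal (MvPolynomial (Fin 4) K))
    (y : Fin 4 → MvPolynomial (Fin 4) K) (hJ : ∀ r, ∑ i, C (Φ (Pi.single i 1) r) * y i ∈ J) (i : Fin 4) : y i ∈ J := by
  classical
  obtain ⟨e, he⟩ : ∃ e : V K ≃ₗ[K] V K, ∀ w, e w = Φ w := ⟨LinearEquiv.ofInjectiveEndo Φ hinj, fun w => rfl⟩
  have hcoef : ∀ j, ∑ r, e.symm (Pi.single r 1) i * Φ (Pi.single j 1) r = if j = i then 1 else 0 := fun j => by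
    have h' := congrFun ((congrArg e.symm (he (Pi.single j 1))).symm.trans (e.symm_apply_apply _)) i
    rw [pi_eq_sum_univ' (Φ (Pi.single j 1)), map_sum, Finset.sum_apply] at h'
    simp only [map_smul, Pi.smul_apply, smul_eq_mul] at h'
    refine Eq.trans ?_ (h'.trans ?_)
    · exact Finset.sum_congr rfl fun r _ => mul_comm _ _
    · simp [Pi.single_apply, eq_comm]
  have h : ∑ r, C (e.symm (Pi.single r 1) i) * (∑ j, C (Φ (Pi.single j 1) r) * y j) = y i := by
    simp only [Finset.mul_sum, ← mul_assoc, ← map_mul]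
    rw [Finset.sum_comm]
    simp only [← Finset.sum_mul, ← map_sum, hcoef]
    simp
  exact h ▸ Ideal.sum_mem _ fun r _ => Ideal.mul_mem_left _ _ (hJ r)

omit [IsAlgClosed K] [CharZero K] in
theorem le_of_le_sq_sup (m p : Ideal (MvPolynomial (Fin 4) K)) (hp : p.IsPrime) (hpm : p ≤ m) (hm : m ≠ ⊤)
    (hmJ : m ≤ m * m ⊔ p) : m ≤ p := by
  let N := Ideal.map (Ideal.Quotient.mk p) m
  have hN : N ≤ N * N := by
    have h := Ideal.map_mono (f := Ideal.Quotient.mk p) hmJ
    have h0 : Ideal.map (Ideal.Quotient.mk p) p = ⊥ := by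
      rw [Ideal.map_eq_bot_iff_le_ker, Ideal.mk_ker]
    rw [Ideal.map_sup, Ideal.map_mul, h0, sup_bot_eq] at h
    exact h
  obtain ⟨r, hr1, hr0⟩ := Submodule.exists_sub_one_mem_and_smul_eq_zero_of_fg_of_le_smul N N
    (IsNoetherian.noetherian N) hN
  have hNtop : N ≠ ⊤ := fun h => by
    have := Ideal.comap_map_of_surjective (Ideal.Quotient.mk p) Ideal.Quotient.mk_surjective m
    rw [show Ideal.map (Ideal.Quotient.mk p) m = N from rfl, h, Ideal.comap_top, ← RingHom.ker_eq_comap_bot,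
      Ideal.mk_ker, sup_eq_left.2 hpm] at this
    exact hm this.symm
  intro g hg
  rw [← Ideal.Quotient.eq_zero_iff_mem]
  refine (mul_eq_zero.1 (hr0 _ (Ideal.mem_map_of_mem _ hg))).resolve_left fun h => hNtop ?_
  rw [h, zero_sub] at hr1
  exact (Ideal.eq_top_iff_one N).2 (neg_mem_iff.1 hr1)

set_option maxHeartbeats 1000000 in
theorem finite_regular_chart (f : MvPolynomial (Fin 4) K) (hG : ∀ v, eval v f = G.F v)
    (hG' : ∀ v i, eval v (pderiv i f) = 3 * G.T v v (Pi.single i 1)) (σ : Equiv.Perm (Fin 4)) :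
    {q : V K | IsLine G (chartLine σ q) ∧ ∀ u ∈ chartLine σ q, u ≠ 0 → G.T u u ≠ 0}.Finite := by
  classical
  let I : Ideal (MvPolynomial (Fin 4) K) :=
    Ideal.span (Set.range fun r => aeval (chartP σ (prs (K := K) r).1 (prs (K := K) r).2) f)
  refine Set.Finite.of_finite_image (f := fun q => RingHom.ker (eval q : (MvPolynomial (Fin 4) K) →+* K))
    (I.finite_minimalPrimes_of_isNoetherianRing.subset ?_) ?_
  swap
  · intro q _ q' _ h
    funext i
    have h1 : X i - C (q i) ∈ RingHom.ker (eval q : (MvPolynomial (Fin 4) K) →+* K) := by simp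
    have h2 : X i - C (q i) ∈ RingHom.ker (eval q' : (MvPolynomial (Fin 4) K) →+* K) := by
      simp only at h
      rw [← h]; exact h1
    simpa [sub_eq_zero, eq_comm] using h2
  rintro _ ⟨q, ⟨hline, hreg⟩, rfl⟩
  set m : Ideal (MvPolynomial (Fin 4) K) := RingHom.ker (eval q : (MvPolynomial (Fin 4) K) →+* K) with hm
  have hu : cu σ q ∈ chartLine σ q := Submodule.subset_span (Or.inl rfl)
  have hv : cv σ q ∈ chartLine σ q := Submodule.subset_span (Or.inr rfl)
  have hIm : I ≤ m := Ideal.span_le.2 <| by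
    rintro _ ⟨r, rfl⟩
    show eval q (aeval (chartP σ (prs (K := K) r).1 (prs (K := K) r).2) f) = 0
    rw [aeval_def, algebraMap_eq, eval₂_comp_left (eval q)]
    have : (eval q).comp C = RingHom.id K := RingHom.ext fun c => eval_C c
    rw [this]
    show eval (eval q ∘ chartP σ (prs (K := K) r).1 (prs (K := K) r).2) f = 0
    rw [hG, show (eval q ∘ chartP σ (prs (K := K) r).1 (prs (K := K) r).2) =
      (prs (K := K) r).1 • cu σ q + (prs (K := K) r).2 • cv σ q from funext fun l => eval_chartP σ _ _ q l]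
    exact hline.2 _ (add_mem (Submodule.smul_mem _ _ hu) (Submodule.smul_mem _ _ hv))
  refine ⟨⟨(RingHom.ker_isPrime _), hIm⟩, fun p hp hpm => ?_⟩
  change m ≤ p
  -- the linear parts of the generators
  let y : Fin 4 → (MvPolynomial (Fin 4) K) := fun i => X i - C (q i)
  have hy : ∀ i, y i ∈ m := fun i => by
    show eval q (X i - C (q i)) = 0
    rw [map_sub, eval_X, eval_C, sub_self]
  let J : Ideal (MvPolynomial (Fin 4) K) := m * m ⊔ p
  let A : Fin 4 → K := fun r => G.T ((prs (K := K) r).1 • cu σ q + (prs (K := K) r).2 • cv σ q)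
    ((prs (K := K) r).1 • cu σ q + (prs (K := K) r).2 • cv σ q) (Pi.single (σ 2) 1)
  let B : Fin 4 → K := fun r => G.T ((prs (K := K) r).1 • cu σ q + (prs (K := K) r).2 • cv σ q)
    ((prs (K := K) r).1 • cu σ q + (prs (K := K) r).2 • cv σ q) (Pi.single (σ 3) 1)
  let Φ : V K →ₗ[K] V K := LinearMap.pi fun r =>
    A r • ((prs (K := K) r).1 • LinearMap.proj 0 + (prs (K := K) r).2 • LinearMap.proj 2) +
    B r • ((prs (K := K) r).1 • LinearMap.proj 1 + (prs (K := K) r).2 • LinearMap.proj 3)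
  have hΦ : ∀ w r, Φ w r = A r * ((prs (K := K) r).1 * w 0 + (prs (K := K) r).2 * w 2) + B r * ((prs (K := K) r).1 * w 1 + (prs (K := K) r).2 * w 3) :=
    fun w r => by simp [Φ]; ring
  have hJ : ∀ r, ∑ i, C (Φ (Pi.single i 1) r) * y i ∈ J := fun r => by
    have h := linear_part_mem f hG' σ (prs (K := K) r).1 (prs (K := K) r).2 q J le_sup_left
      (Submodule.mem_sup_right (hp.2 (Ideal.subset_span ⟨r, rfl⟩)))
      ((hG _).trans (hline.2 _ (add_mem (Submodule.smul_mem _ _ hu) (Submodule.smul_mem _ _ hv))))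
    convert h using 1
    simp only [hΦ, Fin.sum_univ_four, map_add, map_mul, A, B, y, Pi.single_apply, Fin.reduceEq, if_true, if_false,
      map_zero, map_one]
    ring
  have hyJ : ∀ i, y i ∈ J := fun i => mem_of_injective Φ (tangent_injective hline hreg Φ hΦ) J y hJ i
  have hmJ : m ≤ J := fun g hg => by
    have h1 := taylor m q y hy g
    rw [show (fun l => C (q l) + y l) = X from funext fun l => by simp [y], aeval_X_left_apply,
      show eval q g = 0 from hg, map_zero, zero_add] at h1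
    have h2 := add_mem (Submodule.mem_sup_left h1 : _ ∈ J)
      (Ideal.sum_mem J fun l (_ : l ∈ Finset.univ) => Ideal.mul_mem_left _ (C (eval q (pderiv l g))) (hyJ l))
    simpa using h2
  exact le_of_le_sq_sup m p hp.1 hpm (RingHom.ker_ne_top _) hmJ

theorem finite_regular_lines (f : MvPolynomial (Fin 4) K) (hG : ∀ v, eval v f = G.F v)
    (hG' : ∀ v i, eval v (pderiv i f) = 3 * G.T v v (Pi.single i 1)) :
    {U | IsLine G U ∧ ∀ u ∈ U, u ≠ 0 → G.T u u ≠ 0}.Finite := by
  refine (Set.finite_iUnion fun σ => (finite_regular_chart f hG hG' σ).image (chartLine σ)).subset ?_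
  rintro U ⟨hU, hreg⟩
  obtain ⟨σ, q, rfl⟩ := exists_chart hU.1
  exact Set.mem_iUnion.2 ⟨σ, q, ⟨hU, hreg⟩, rfl⟩

end Groth.Agent.Cubic70
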