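import Groth.Agent.Cubic70.Points

/-!
# Linear Pfaffian representations of cubic surfaces
-/

universe u v w

namespace Groth.Agent.Cubic70

open Module CubicLib MvPolynomial

variable {k : Type v} [Field k] {K : Type u} [Field K] [Algebra k K]

theorem map_ne_cone {F : MvPolynomial (Fin 4) k}
    (hcone : ¬ ∃ v : Fin 4 → k, v ≠ 0 ∧ ∑ i : Fin 4, v i • pderiv i F = 0) :
    ¬ ∃ v : Fin 4 → K, v ≠ 0 ∧ ∑ i : Fin 4, v i • pderiv i (MvPolynomial.map (algebraMap k K) F) = 0 := by
  rintro ⟨v, hv, h⟩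
  obtain ⟨j, hj⟩ : ∃ j, v j ≠ 0 := by
    by_contra! hall; exact hv (funext hall)
  obtain ⟨l, hl⟩ : ∃ l : K →ₗ[k] k, l (v j) ≠ 0 := by
    obtain ⟨l, hl, -⟩ := Submodule.exists_dual_map_eq_bot_of_notMem
      (show v j ∉ (⊥ : Submodule k K) from fun h => hj ((Submodule.mem_bot k).1 h)) inferInstance
    exact ⟨l, hl⟩
  refine hcone ⟨fun i => l (v i), fun h0 => hl (congrFun h0 j), MvPolynomial.ext _ _ fun d => ?_⟩
  have e := congrArg (coeff d) h
  simp only [coeff_sum, coeff_smul, pderiv_map, coeff_map, smul_eq_mul, coeff_zero] at e ⊢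
  have e' := congrArg l e
  rw [map_sum, map_zero] at e'
  refine Eq.trans (Finset.sum_congr rfl fun i _ => ?_) e'
  rw [mul_comm (v i), ← Algebra.smul_def, map_smul, smul_eq_mul, mul_comm]

theorem exists_dual_vanish {L : Type*} [Field L] {U : Submodule L (V L)} (hU : U ≠ ⊤) :
    ∃ l : V L →ₗ[L] L, l ≠ 0 ∧ ∀ u ∈ U, l u = 0 := by
  obtain ⟨l, hl, hle⟩ := U.exists_le_ker_of_lt_top (lt_top_iff_ne_top.2 hU)
  exact ⟨l, hl, hle⟩

variable [CharZero k] [CharZero K] [IsAlgClosed K] {F : MvPolynomial (Fin 4) k} {GK : Cubic K (V K)}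

/-- Five rational points in general position, one of them given and not a T-point. -/
theorem five_points (hF : F.IsHomogeneous 3) (hGK : IsForm (MvPolynomial.map (algebraMap k K) F) GK)
    (hirr : Irreducible (MvPolynomial.map (algebraMap k K) F))
    (hcone : ¬ ∃ v : Fin 4 → k, v ≠ 0 ∧ ∑ i : Fin 4, v i • pderiv i F = 0)
    {a : V k} (ha : a ≠ 0) (hFa : eval a F = 0) (hT : ¬ IsT GK (incl a)) :
    ∃ p : Fin 5 → (Fin 4 → k), p 0 = a ∧ (∀ j : Fin 5, eval (p j) F = 0) ∧
      ∀ j : Fin 5, LinearIndependent k (fun i : Fin 4 => p (j.succAbove i)) := by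
  classical
  obtain ⟨G, hG⟩ := exists_form hF
  have hc := compat_of_form hG hGK
  obtain ⟨𝓛, hfin, hdim, -, hbad⟩ := hGK.exists_badLines hirr (map_ne_cone hcone)
  have havoid : ∀ S : Finset (Submodule k (V k)), (∀ W ∈ S, W ≠ ⊤) →
      ∃ p : V k, eval p F = 0 ∧ ∀ W ∈ S, p ∉ W := by
    intro S hS
    choose l hl0 hlW using fun W : {W // W ∈ S} => exists_dual_vanish (hS W.1 W.2)
    obtain ⟨p, hp, hp'⟩ := exists_avoid hc (hGK.irr hirr) (hGK.noCone (map_ne_cone hcone)) 𝓛 hfin hdim hbad ha
      (by rw [← hG.eval_eq, hFa]) hT (S.attach.image fun W => liftLin (l W)) (fun μ hμ => by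
        obtain ⟨W, -, rfl⟩ := Finset.mem_image.1 hμ
        intro h0
        refine hl0 W (LinearMap.ext fun v => (algebraMap k K).injective ?_)
        rw [← liftLin_incl, h0, LinearMap.zero_apply, LinearMap.zero_apply, map_zero])
    refine ⟨p, by rw [hG.eval_eq, hp], fun W hW hpW => ?_⟩
    exact hp' _ (Finset.mem_image.2 ⟨⟨W, hW⟩, Finset.mem_attach _ _, rfl⟩) (by rw [liftLin_incl, hlW ⟨W, hW⟩ p hpW, map_zero])
  have hne : ∀ {n : ℕ} (e : Fin n → V k), n ≤ 3 → Submodule.span k (Set.range e) ≠ ⊤ := fun e hn h => by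
    have := finrank_range_le_card (R := k) e
    rw [Set.finrank, h, finrank_top, Module.finrank_fin_fun, Fintype.card_fin] at this
    omega
  have hext : ∀ {n : ℕ} (e : Fin n → V k), n ≤ 3 → LinearIndependent k e →
      ∃ p, eval p F = 0 ∧ LinearIndependent k (Fin.cons p e : Fin (n + 1) → V k) := fun e hn he => by
    obtain ⟨p, hp, hp'⟩ := havoid {Submodule.span k (Set.range e)} (by simpa using hne e hn)
    exact ⟨p, hp, linearIndependent_finCons.2 ⟨he, hp' _ (Finset.mem_singleton_self _)⟩⟩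
  obtain ⟨p₁, h₁, li₁⟩ := hext ![a] (by norm_num) (linearIndependent_unique_iff.2 (by simpa using ha))
  obtain ⟨p₂, h₂, li₂⟩ := hext _ (by norm_num) li₁
  obtain ⟨p₃, h₃, li₃⟩ := hext _ le_rfl li₂
  let e : Fin 4 → V k := ![a, p₁, p₂, p₃]
  have he : LinearIndependent k e := by
    have : e = (Fin.cons p₃ (Fin.cons p₂ (Fin.cons p₁ ![a])) : Fin 4 → V k) ∘ Fin.rev := by
      funext i; fin_cases i <;> rfl
    rw [this]
    exact li₃.comp _ Fin.rev_injective
  obtain ⟨p₄, h₄, hp₄⟩ := havoid (Finset.univ.image fun j : Fin 4 => Submodule.span k (Set.range (e ∘ j.succAbove)))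
    (fun W hW => by
      obtain ⟨j, -, rfl⟩ := Finset.mem_image.1 hW
      exact hne _ le_rfl)
  refine ⟨Fin.snoc e p₄, rfl, Fin.lastCases ?_ ?_, Fin.lastCases ?_ fun j => ?_⟩
  · show eval (Fin.snoc (α := fun _ => V k) e p₄ (Fin.last 4)) F = 0
    rw [Fin.snoc_last]; exact h₄
  · intro i; rw [Fin.snoc_castSucc]; fin_cases i <;> assumption
  · show LinearIndependent k fun i => Fin.snoc (α := fun _ => V k) e p₄ ((Fin.last 4).succAbove i)
    simp only [Fin.succAbove_last, Fin.snoc_castSucc]; exact he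
  · have hli : LinearIndependent k (Fin.snoc (e ∘ j.succAbove) p₄ : Fin 4 → V k) :=
      linearIndependent_finSnoc.2 ⟨he.comp _ Fin.succAbove_right_injective,
        hp₄ _ (Finset.mem_image.2 ⟨j, Finset.mem_univ _, rfl⟩)⟩
    convert hli using 1
    funext i
    refine Fin.lastCases ?_ (fun i => ?_) i
    · rw [Fin.succAbove_castSucc_of_le _ _ (Fin.le_last j), Fin.succ_last, Fin.snoc_last, Fin.snoc_last]
    · rw [Fin.snoc_castSucc, Fin.castSucc_succAbove_castSucc, Fin.snoc_castSucc]
      rfl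

theorem rep_of_point (hF : F.IsHomogeneous 3) (hGK : IsForm (MvPolynomial.map (algebraMap k K) F) GK)
    (hirr : Irreducible (MvPolynomial.map (algebraMap k K) F))
    (hcone : ¬ ∃ v : Fin 4 → k, v ≠ 0 ∧ ∑ i : Fin 4, v i • pderiv i F = 0)
    {a : V k} (ha : a ≠ 0) (hFa : eval a F = 0) (hT : ¬ IsT GK (incl a)) :
    ∃ M : Matrix (Fin 6) (Fin 6) (MvPolynomial (Fin 4) k), (∀ i j, (M i j).IsHomogeneous 1) ∧ M.transpose = -M ∧
      (∀ i, M i i = 0) ∧ ∃ c : k, c ≠ 0 ∧ M.det = C c * F ^ 2 := by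
  obtain ⟨p, -, hp, hli⟩ := five_points hF hGK hirr hcone ha hFa hT
  exact exists_rep F hF p hp hli

theorem not_isT_of_poly (hGK : IsForm (MvPolynomial.map (algebraMap k K) F) GK) (a : V k)
    (ℓ : MvPolynomial (Fin 4) K) (hℓ : ℓ = ∑ i : Fin 4, C (algebraMap k K (eval a (pderiv i F))) * X i)
    (hT : ¬ ∃ L₁ L₂ L₃ : MvPolynomial (Fin 4) K, L₁.IsHomogeneous 1 ∧ L₂.IsHomogeneous 1 ∧ L₃.IsHomogeneous 1 ∧
      MvPolynomial.map (algebraMap k K) F - L₁ * L₂ * L₃ ∈ Ideal.span {ℓ}) : ¬ IsT GK (incl a) := fun h => by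
  obtain ⟨-, -, -, hu⟩ := (hGK.isT_iff _).1 h
  have e : tanForm (MvPolynomial.map (algebraMap k K) F) (incl a) = ℓ := by
    rw [hℓ, tanForm]
    refine Finset.sum_congr rfl fun i _ => ?_
    rw [pderiv_map]
    congr 2
    exact (MvPolynomial.eval_map _ _ _).trans (eval₂_comp_left (algebraMap k K) (RingHom.id k) a _).symm
  exact hT (e ▸ hu)

/-- A rational line on which every zero of the cubic avoids the T-points. -/
theorem exists_good_line (hF : F.IsHomogeneous 3) (hirr : Irreducible (MvPolynomial.map (algebraMap k K) F))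
    (hcone : ¬ ∃ v : Fin 4 → k, v ≠ 0 ∧ ∑ i : Fin 4, v i • pderiv i F = 0)
    (hGK : IsForm (MvPolynomial.map (algebraMap k K) F) GK) :
    ∃ (p q : V k) (G : Cubic k (V k)), IsForm F G ∧ G.F q ≠ 0 ∧ (∀ c : k, p ≠ c • q) ∧
      ∀ s t : K, (s ≠ 0 ∨ t ≠ 0) → ¬ IsT GK (s • incl p + t • incl q) := by
  classical
  obtain ⟨G, hG⟩ := exists_form hF
  obtain ⟨𝓛, hfin, hdim, hcov, -⟩ := hGK.exists_badLines hirr (map_ne_cone hcone)
  choose l hl0 hlU using fun U : {U // U ∈ hfin.toFinset} => exists_dual_vanish (U := U.1) fun h => by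
    have := (hdim U.1 (hfin.mem_toFinset.1 U.2)).1
    rw [h, finrank_top, Module.finrank_fin_fun] at this
    omega
  let L : (Fin 4 → K) →ₗ[K] V K := LinearMap.id
  obtain ⟨q, hq⟩ := exists_rational (k := k) Finset.univ
    (fun (o : Option {U // U ∈ hfin.toFinset}) (x : Fin 4 → K) => o.elim (GK.F (L x)) fun U => l U x)
    (fun o _ => match o with
      | none => isPoly_F GK L
      | some U => isPoly_lin _)
    (fun o _ => by
      rcases o with _ | U
      · obtain ⟨u, -, hu⟩ := no_hyperplane (hGK.irr hirr) (LinearMap.ker (LinearMap.proj (0 : Fin 4) : V K →ₗ[K] K)) (by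
          have h := LinearMap.finrank_range_add_finrank_ker (LinearMap.proj (0 : Fin 4) : V K →ₗ[K] K)
          rw [LinearMap.range_eq_top.2 (LinearMap.proj_surjective _), finrank_top, Module.finrank_self, Module.finrank_fin_fun] at h
          omega)
        exact ⟨u, hu⟩
      · by_contra! hall
        exact hl0 U (LinearMap.ext hall))
  have hq0 : ∀ U ∈ 𝓛, (incl q : V K) ∉ U := fun U hU h =>
    hq (some ⟨U, hfin.mem_toFinset.2 hU⟩) (Finset.mem_univ _) (hlU _ _ h)
  choose m hm0 hmU using fun U : {U // U ∈ hfin.toFinset} =>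
    exists_dual_vanish (U := U.1 ⊔ Submodule.span K {(incl q : V K)}) fun h => by
      have h1 := Submodule.finrank_sup_add_finrank_inf_eq U.1 (Submodule.span K {(incl q : V K)})
      have h2 := finrank_span_le_card ({incl q} : Set (V K)) (R := K)
      rw [h, finrank_top, Module.finrank_fin_fun, (hdim U.1 (hfin.mem_toFinset.1 U.2)).1] at h1
      simp at h2
      omega
  obtain ⟨m₀, hm₀, hm₀q⟩ := exists_dual_vanish (U := Submodule.span K {(incl q : V K)}) fun h => by
    have h2 := finrank_span_le_card ({incl q} : Set (V K)) (R := K)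
    rw [h, finrank_top, Module.finrank_fin_fun] at h2
    simp at h2
  obtain ⟨p, hp⟩ := exists_rational (k := k) Finset.univ
    (fun (o : Option {U // U ∈ hfin.toFinset}) (x : Fin 4 → K) => o.elim (m₀ x) fun U => m U x)
    (fun o _ => match o with
      | none => isPoly_lin _
      | some U => isPoly_lin _)
    (fun o _ => by
      rcases o with _ | U
      · by_contra! hall
        exact hm₀ (LinearMap.ext hall)
      · by_contra! hall
        exact hm0 U (LinearMap.ext hall))
  refine ⟨p, q, G, hG, fun h => hq none (Finset.mem_univ _) ?_, fun c hc => hp none (Finset.mem_univ _) ?_,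
    fun s t hst hb => ?_⟩
  · show GK.F (incl q) = 0
    rw [(compat_of_form hG hGK).F_incl, h, map_zero]
  · show m₀ (incl p) = 0
    rw [hc, incl_smul, map_smul, hm₀q _ (Submodule.mem_span_singleton_self _), smul_zero]
  · obtain ⟨U, hU, hbU⟩ := hcov _ hb
    have h := hmU ⟨U, hfin.mem_toFinset.2 hU⟩ _ (Submodule.mem_sup_left hbU)
    rw [map_add, map_smul, map_smul, hmU _ (incl q) (Submodule.mem_sup_right (Submodule.mem_span_singleton_self _)),
      smul_zero, add_zero, smul_eq_mul, mul_eq_zero] at h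
    have hs : s = 0 := h.resolve_right (hp (some ⟨U, hfin.mem_toFinset.2 hU⟩) (Finset.mem_univ _))
    rw [hs, zero_smul, zero_add] at hbU
    exact hq0 U hU ((U.smul_mem_iff (hst.resolve_left (not_not.2 hs))).1 hbU)

/-- The restriction of the cubic to a parametrized line, as a polynomial. -/
noncomputable def linePoly (G : Cubic k (V k)) (p q : V k) : Polynomial k :=
  Polynomial.C (G.F p) + Polynomial.C (3 * G.T p p q) * Polynomial.X + Polynomial.C (3 * G.T p q q) * Polynomial.X ^ 2 +
    Polynomial.C (G.F q) * Polynomial.X ^ 3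

theorem natDegree_linePoly {G : Cubic k (V k)} (p : V k) {q : V k} (hq : G.F q ≠ 0) :
    (linePoly G p q).natDegree = 3 := by
  unfold linePoly
  compute_degree!

/-- A representation over any field generated by a zero of the cubic on the line. -/
theorem rep_of_root {E : Type w} [Field E] [CharZero E] [Algebra k E] [Algebra E K] [IsScalarTower k E K]
    (hF : F.IsHomogeneous 3) (hirr : Irreducible (MvPolynomial.map (algebraMap k K) F))
    (hcone : ¬ ∃ v : Fin 4 → k, v ≠ 0 ∧ ∑ i : Fin 4, v i • pderiv i F = 0)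
    (hGK : IsForm (MvPolynomial.map (algebraMap k K) F) GK)
    {G : Cubic k (V k)} (hG : IsForm F G) (p q : V k) (hq : G.F q ≠ 0)
    (hline : ∀ s t : K, (s ≠ 0 ∨ t ≠ 0) → ¬ IsT GK (s • incl p + t • incl q))
    (hli : ∀ c : k, p ≠ c • q) (θ : E) (hθ : Polynomial.aeval θ (linePoly G p q) = 0) :
    ∃ M : Matrix (Fin 6) (Fin 6) (MvPolynomial (Fin 4) E), (∀ i j, (M i j).IsHomogeneous 1) ∧ M.transpose = -M ∧
      (∀ i, M i i = 0) ∧ ∃ c : E, c ≠ 0 ∧ M.det = C c * (MvPolynomial.map (algebraMap k E) F) ^ 2 := by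
  obtain ⟨GE, hGE⟩ := exists_form (hF.map (algebraMap k E))
  have hcE := compat_of_form hG hGE
  have hmap : MvPolynomial.map (algebraMap E K) (MvPolynomial.map (algebraMap k E) F) = MvPolynomial.map (algebraMap k K) F := by
    rw [MvPolynomial.map_map, ← IsScalarTower.algebraMap_eq]
  let a : V E := incl p + θ • incl q
  have hFa : eval a (MvPolynomial.map (algebraMap k E) F) = 0 := by
    rw [hGE.eval_eq, GE.F_add_smul, hcE.F_incl, hcE.T_incl, hcE.T_incl, hcE.F_incl, ← hθ]
    simp [linePoly, map_mul, map_ofNat]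
    ring
  have hincl : ∀ v : V k, (incl (K := K) (incl (K := E) v)) = incl v := fun v => funext fun i =>
    (IsScalarTower.algebraMap_apply k E K _).symm
  have haK : (incl a : V K) = (1 : K) • incl p + algebraMap E K θ • incl q := by
    rw [one_smul, incl_add, incl_smul, hincl, hincl]
  have ha : a ≠ 0 := fun h => by
    obtain ⟨j, hj⟩ : ∃ j, q j ≠ 0 := by
      by_contra! hall
      exact hq (by rw [show q = 0 from funext hall]; exact F_zero)
    have hθ' : θ = algebraMap k E (-p j / q j) := by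
      have e : algebraMap k E (p j) + θ * algebraMap k E (q j) = 0 := congrFun h j
      rw [map_div₀, map_neg, eq_div_iff ((map_ne_zero _).2 hj)]
      linear_combination e
    refine hli (p j / q j) (funext fun i => (algebraMap k E).injective ?_)
    have e : algebraMap k E (p i) + θ * algebraMap k E (q i) = 0 := congrFun h i
    rw [Pi.smul_apply, smul_eq_mul, map_mul, map_div₀]
    rw [hθ', map_div₀, map_neg] at e
    linear_combination e
  refine rep_of_point (K := K) (GK := GK) (hF.map _) (hmap.symm ▸ hGK) (hmap.symm ▸ hirr) ?_ ha hFa ?_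
  · exact map_ne_cone hcone
  · rw [haK]
    exact hline _ _ (Or.inl one_ne_zero)

/-- A real polynomial of odd degree has a root. -/
theorem exists_real_root (f : Polynomial ℝ) (hf : Odd f.natDegree) : ∃ x : ℝ, f.eval x = 0 := by
  have main : ∀ g : Polynomial ℝ, Odd g.natDegree → 0 ≤ g.leadingCoeff → ∃ x : ℝ, g.eval x = 0 := fun g hg hl => by
    have hpos : 0 < g.degree := Polynomial.natDegree_pos_iff_degree_pos.1 hg.pos
    have h1 := Polynomial.tendsto_atTop_of_leadingCoeff_nonneg g hpos hl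
    have h2 : Filter.Tendsto (fun x => (g.comp (-Polynomial.X)).eval x) Filter.atTop Filter.atBot := by
      refine Polynomial.tendsto_atBot_of_leadingCoeff_nonpos _ ?_ ?_
      · rw [← Polynomial.natDegree_pos_iff_degree_pos, Polynomial.natDegree_comp, Polynomial.natDegree_neg,
          Polynomial.natDegree_X, mul_one]
        exact hg.pos
      · rw [Polynomial.leadingCoeff_comp (by rw [Polynomial.natDegree_neg, Polynomial.natDegree_X]; exact one_ne_zero),
          Polynomial.leadingCoeff_neg, Polynomial.leadingCoeff_X, hg.neg_one_pow]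
        linarith
    obtain ⟨b, hb⟩ := (h1.eventually (Filter.eventually_ge_atTop 0)).exists
    obtain ⟨c, hc⟩ := (h2.eventually (Filter.eventually_le_atBot 0)).exists
    rw [Polynomial.eval_comp, Polynomial.eval_neg, Polynomial.eval_X] at hc
    obtain ⟨x, hx⟩ := mem_range_of_exists_le_of_exists_ge g.continuous ⟨-c, hc⟩ ⟨b, hb⟩
    exact ⟨x, hx⟩
  rcases le_total 0 f.leadingCoeff with h | h
  · exact main f hf h
  · obtain ⟨x, hx⟩ := main (-f) (by rwa [Polynomial.natDegree_neg]) (by rw [Polynomial.leadingCoeff_neg]; linarith)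
    exact ⟨x, by simpa using hx⟩

end Groth.Agent.Cubic70
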