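import Groth.Agent.Cubic70.Points
import Groth.Agent.CubicLib.Section

/-!
# The five tritangent planes through a line of a smooth cubic surface
-/

universe u

namespace Groth.Agent.Cubic70

open Module CubicLib
open scoped Matrix

variable {K : Type u} [Field K]

/-- A polynomial of degree at most `n` with coefficient `a` there. -/
def Top (p : Polynomial K) (n : ℕ) (a : K) : Prop := p.natDegree ≤ n ∧ p.coeff n = a

theorem Top.mul {p q : Polynomial K} {m n : ℕ} {a b : K} (hp : Top p m a) (hq : Top q n b) :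
    Top (p * q) (m + n) (a * b) :=
  ⟨Polynomial.natDegree_mul_le.trans (add_le_add hp.1 hq.1), by
    rw [Polynomial.coeff_mul_add_eq_of_natDegree_le hp.1 hq.1, hp.2, hq.2]⟩

theorem Top.add {p q : Polynomial K} {n : ℕ} {a b : K} (hp : Top p n a) (hq : Top q n b) : Top (p + q) n (a + b) :=
  ⟨Polynomial.natDegree_add_le_of_degree_le hp.1 hq.1, by rw [Polynomial.coeff_add, hp.2, hq.2]⟩

theorem Top.sub {p q : Polynomial K} {n : ℕ} {a b : K} (hp : Top p n a) (hq : Top q n b) : Top (p - q) n (a - b) :=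
  ⟨(Polynomial.natDegree_sub_le _ _).trans (max_le hp.1 hq.1), by rw [Polynomial.coeff_sub, hp.2, hq.2]⟩

variable (G : Cubic K (V K)) (x y : V K)

/-- The residual conic in the plane through `x`, `y` and `h`. -/
def cM (h : V K) : Matrix (Fin 3) (Fin 3) K :=
  !![G.T x x h, G.T x y h, G.T x h h / 2; G.T x y h, G.T y y h, G.T y h h / 2; G.T x h h / 2, G.T y h h / 2, G.F h / 3]

theorem cM_transpose (h : V K) : (cM G x y h).transpose = cM G x y h := by
  ext i j; fin_cases i <;> fin_cases j <;> simp [cM]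

/-- Coordinates in the plane. -/
def psi (h : V K) (v : Fin 3 → K) : V K := v 0 • x + v 1 • y + v 2 • h

/-- The conic as a quadratic form. -/
def qM (h : V K) (v w : Fin 3 → K) : K := v ⬝ᵥ (cM G x y h *ᵥ w)

theorem qM_eq (h : V K) (v : Fin 3 → K) : qM G x y h v v =
    G.T x x h * v 0 ^ 2 + 2 * G.T x y h * (v 0 * v 1) + G.T y y h * v 1 ^ 2 + 2 * (G.T x h h / 2) * (v 0 * v 2) +
      2 * (G.T y h h / 2) * (v 1 * v 2) + G.F h / 3 * v 2 ^ 2 := by
  simp [qM, cM, dotProduct, Matrix.mulVec, Fin.sum_univ_three]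
  ring

theorem qM_comm (h : V K) (v w : Fin 3 → K) : qM G x y h v w = qM G x y h w v := by
  simp [qM, cM, dotProduct, Matrix.mulVec, Fin.sum_univ_three]
  ring

theorem qM_add (h : V K) (v v' w : Fin 3 → K) : qM G x y h (v + v') w = qM G x y h v w + qM G x y h v' w :=
  add_dotProduct _ _ _

variable {G x y} [CharZero K]

theorem F_psi (h0 : ∀ u ∈ Submodule.span K {x, y}, G.F u = 0) (h : V K) (v : Fin 3 → K) :
    G.F (psi x y h v) = 3 * v 2 * qM G x y h v v := by
  have hx : x ∈ Submodule.span K {x, y} := Submodule.subset_span (Or.inl rfl)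
  have hy : y ∈ Submodule.span K {x, y} := Submodule.subset_span (Or.inr rfl)
  rw [psi, G.F_comb₃, h0 x hx, h0 y hy, G.T_eq_zero_of_F h0 hx hx hy, G.T_eq_zero_of_F h0 hx hy hy, qM_eq]
  field_simp
  ring

theorem psi_inj {h : V K} (hli : LinearIndependent K ![x, y, h]) {v w : Fin 3 → K}
    (e : psi x y h v = psi x y h w) : v = w := by
  have := Fintype.linearIndependent_iff.1 hli (v - w) (by
    simp only [psi] at e
    simp [Fin.sum_univ_three, sub_smul]
    linear_combination (norm := module) e)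
  funext i
  exact sub_eq_zero.1 (this i)

/-- The polynomial family of residual conics. -/
noncomputable def cP (G : Cubic K (V K)) (x y z w : V K) : Matrix (Fin 3) (Fin 3) (Polynomial K) :=
  let A : Polynomial K := .C (G.T x x z) * .X + .C (G.T x x w)
  let B : Polynomial K := .C (G.T x y z) * .X + .C (G.T x y w)
  let C : Polynomial K := .C (G.T y y z) * .X + .C (G.T y y w)
  let D : Polynomial K := .C (G.T x z z / 2) * .X ^ 2 + .C (G.T x z w) * .X + .C (G.T x w w / 2)
  let E : Polynomial K := .C (G.T y z z / 2) * .X ^ 2 + .C (G.T y z w) * .X + .C (G.T y w w / 2)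
  let H : Polynomial K := .C (G.F z / 3) * .X ^ 3 + .C (G.T z z w) * .X ^ 2 + .C (G.T z w w) * .X + .C (G.F w / 3)
  !![A, B, D; B, C, E; D, E, H]

theorem cP_map (z w : V K) (t : K) : (cP G x y z w).map (Polynomial.eval t) = cM G x y (t • z + w) := by
  have hT : ∀ u, G.T u (t • z + w) (t • z + w) = t ^ 2 * G.T u z z + 2 * t * G.T u z w + G.T u w w := fun u => by
    simp only [map_add, map_smul, LinearMap.add_apply, LinearMap.smul_apply, smul_eq_mul]
    rw [G.symm₂₃ u w z]; ring
  have hF : G.F (t • z + w) = t ^ 3 * G.F z + 3 * t ^ 2 * G.T z z w + 3 * t * G.T z w w + G.F w := by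
    have := G.F_comb₂ z w t 1
    rw [one_smul] at this
    rw [this]; ring
  ext i j
  fin_cases i <;> fin_cases j <;>
    simp [cP, cM, hT, hF, G.symm₂₃ x w z, G.symm₂₃ y w z] <;> field_simp <;> ring

theorem top_det (z w : V K) : Top (cP G x y z w).det 5 (cM G x y z).det := by
  have hA : ∀ a b, Top (Polynomial.C a * .X + .C b : Polynomial K) 1 a := fun a b =>
    ⟨by compute_degree, by simp⟩
  have hD : ∀ a b c, Top (Polynomial.C a * .X ^ 2 + .C b * .X + .C c : Polynomial K) 2 a := fun a b c =>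
    ⟨by compute_degree, by simp [Polynomial.coeff_X, Polynomial.coeff_C]⟩
  have hH : ∀ a b c d, Top (Polynomial.C a * .X ^ 3 + .C b * .X ^ 2 + .C c * .X + .C d : Polynomial K) 3 a :=
    fun a b c d => ⟨by compute_degree, by simp [Polynomial.coeff_X, Polynomial.coeff_C, Polynomial.coeff_X_pow]⟩
  rw [Matrix.det_fin_three, Matrix.det_fin_three]
  simp [cP, cM]
  exact (((((((hA _ _).mul (hA _ _)).mul (hH _ _ _ _)).sub (((hA _ _).mul (hD _ _ _)).mul (hD _ _ _))).sub
    (((hA _ _).mul (hA _ _)).mul (hH _ _ _ _))).add (((hA _ _).mul (hD _ _ _)).mul (hD _ _ _))).add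
    (((hD _ _ _).mul (hA _ _)).mul (hD _ _ _))).sub (((hD _ _ _).mul (hA _ _)).mul (hD _ _ _))

theorem det_eq_five {R : Type*} [CommRing R] (N : Matrix (Fin 3) (Fin 3) R) (hN : N.transpose = N) :
    N.det = N 0 0 * (N 1 1 * N 2 2 - N 1 2 * N 1 2) - N 0 1 * N 0 1 * N 2 2 + 2 * (N 0 1 * N 0 2 * N 1 2) -
      N 0 2 * N 0 2 * N 1 1 := by
  have h : ∀ i j, N j i = N i j := fun i j => congrFun (congrFun hN i) j
  rw [Matrix.det_fin_three, h 1 0, h 2 0, h 2 1]
  ring

theorem exists_coords_of_mem {h u : V K} (hu : u ∈ Submodule.span K {x, y} ⊔ Submodule.span K {h}) :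
    ∃ v, psi x y h v = u := by
  obtain ⟨a, ha, b, hb, rfl⟩ := Submodule.mem_sup.1 hu
  obtain ⟨r, s, rfl⟩ := Submodule.mem_span_pair.1 ha
  obtain ⟨t, rfl⟩ := Submodule.mem_span_singleton.1 hb
  exact ⟨![r, s, t], by simp [psi]⟩

theorem psi_mem (h : V K) (v : Fin 3 → K) : psi x y h v ∈ Submodule.span K {x, y} ⊔ Submodule.span K {h} :=
  add_mem (Submodule.mem_sup_left (Submodule.mem_span_pair.2 ⟨_, _, rfl⟩))
    (Submodule.mem_sup_right (Submodule.smul_mem _ _ (Submodule.mem_span_singleton_self h)))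

theorem finrank_plane {h : V K} (hli : LinearIndependent K ![x, y, h]) :
    finrank K ↥(Submodule.span K {x, y} ⊔ Submodule.span K {h}) = 3 := by
  rw [← Submodule.span_union, show ({x, y} ∪ {h} : Set (V K)) = Set.range ![x, y, h] by
    simp [Matrix.range_cons, Matrix.range_empty, Set.union_comm]; ext; simp; tauto,
    finrank_span_eq_card hli, Fintype.card_fin]

section Smooth

variable [IsAlgClosed K] (hsm : G.Smooth) (h0 : ∀ u ∈ Submodule.span K {x, y}, G.F u = 0)
  {h : V K} (hli : LinearIndependent K ![x, y, h])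

include hsm h0 hli

/-- The conic is not a double line and does not contain the given line. -/
theorem not_double_conic (l : (Fin 3 → K) →ₗ[K] K) :
    ¬ (∀ v, qM G x y h v v = l v * l v) ∧ ¬ (∀ v, v 2 = 0 → qM G x y h v v = 0) := by
  have key : ∀ (m : (Fin 3 → K) →ₗ[K] K), (∀ v, m v = 0 → qM G x y h v v = 0) →
      (∀ v u, m v = 0 → v 2 * qM G x y h v u = 0 ∧ qM G x y h v v * u 2 = 0) → False := by
    intro m h1 h2
    have hker : 2 ≤ finrank K (LinearMap.ker m) := by
      have e := LinearMap.finrank_range_add_finrank_ker m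
      have e' := (Submodule.finrank_le (LinearMap.range m)).trans_eq (Module.finrank_self K)
      rw [Module.finrank_fin_fun] at e
      omega
    obtain ⟨b, hb⟩ := exists_linearIndependent_of_le_finrank hker
    have hxy : LinearIndependent K ![psi x y h (b 0), psi x y h (b 1)] := LinearIndependent.pair_iff.2 fun s t e => by
      have e' : s • (b 0 : Fin 3 → K) + t • (b 1 : Fin 3 → K) = 0 := psi_inj hli (by
        simp only [psi, Pi.add_apply, Pi.smul_apply, smul_eq_mul, Pi.zero_apply] at e ⊢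
        linear_combination (norm := module) e)
      have := Fintype.linearIndependent_iff.1 hb ![s, t] (Subtype.ext (by simpa [Fin.sum_univ_two] using e'))
      exact ⟨this 0, this 1⟩
    have hmem : ∀ s t : K, m (s • (b 0 : Fin 3 → K) + t • (b 1 : Fin 3 → K)) = 0 := fun s t => by simp
    have hlin : ∀ s t : K, s • psi x y h (b 0) + t • psi x y h (b 1) =
        psi x y h (s • (b 0 : Fin 3 → K) + t • (b 1 : Fin 3 → K)) := fun s t => by
      simp only [psi, Pi.add_apply, Pi.smul_apply, smul_eq_mul]; module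
    refine no_double_line hsm (Submodule.span K {x, y} ⊔ Submodule.span K {h})
      (by rw [finrank_plane hli, Module.finrank_fin_fun]) _ _ hxy (fun s t => ?_) (fun s t u hu => ?_)
    · rw [hlin, F_psi h0, h1 _ (hmem s t), mul_zero]
    · obtain ⟨u', rfl⟩ := exists_coords_of_mem hu
      rw [hlin]
      set v := s • (b 0 : Fin 3 → K) + t • (b 1 : Fin 3 → K)
      have := coeff_one (c₁ := 3 * G.T (psi x y h v) (psi x y h v) (psi x y h u'))
        (c₂ := 3 * G.T (psi x y h v) (psi x y h u') (psi x y h u') -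
          3 * (u' 2 * (2 * qM G x y h v u') + v 2 * qM G x y h u' u'))
        (c₃ := G.F (psi x y h u') - 3 * u' 2 * qM G x y h u' u') fun r => by
          have e : psi x y h v + r • psi x y h u' = psi x y h (v + r • u') := by
            simp only [psi, Pi.add_apply, Pi.smul_apply, smul_eq_mul]; module
          have hF := F_psi (G := G) h0 h (v + r • u')
          rw [← e, G.F_add_smul, F_psi h0 h v, qM_eq G x y h (v + r • u')] at hF
          obtain ⟨k1, k2⟩ := h2 v u' (hmem s t)
          rw [qM_eq] at k2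
          simp only [qM_eq, Pi.add_apply, Pi.smul_apply, smul_eq_mul] at hF ⊢
          simp only [qM, cM, dotProduct, Matrix.mulVec, Fin.sum_univ_three, Matrix.of_apply, Matrix.cons_val',
            Matrix.cons_val_zero, Matrix.cons_val_one, Matrix.cons_val, Matrix.cons_val_fin_one, Matrix.empty_val'] at k1 ⊢
          linear_combination hF + 6 * r * k1 + 3 * r * k2
      simpa using this
  refine ⟨fun hl => key l (fun v hv => by rw [hl, hv, mul_zero]) (fun v u hv => ?_), fun hc => key (LinearMap.proj 2)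
    hc (fun v u hv => ⟨by rw [show v 2 = 0 from hv, zero_mul], by rw [hc v hv, zero_mul]⟩)⟩
  have e1 := hl (v + u)
  rw [qM_add, qM_comm _ _ _ _ v (v + u), qM_comm _ _ _ _ u (v + u), qM_add, qM_add, hl v, hl u, map_add, hv,
    qM_comm _ _ _ _ u v] at e1
  have e2 : qM G x y h v u = 0 := by
    have : 2 * qM G x y h v u = 0 := by linear_combination e1
    simpa using this
  exact ⟨by rw [e2, mul_zero], by rw [hl v, hv]; ring⟩

omit hsm in
/-- At a singular point of the conic the plane is tangent. -/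
theorem tangent_at_kernel {p : Fin 3 → K} (hp : cM G x y h *ᵥ p = 0) :
    ∀ v, G.T (psi x y h p) (psi x y h p) (psi x y h v) = 0 := fun v => by
  have k : ∀ u, qM G x y h u p = 0 := fun u => by simp [qM, hp]
  have := coeff_one (c₁ := 3 * G.T (psi x y h p) (psi x y h p) (psi x y h v))
    (c₂ := 3 * G.T (psi x y h p) (psi x y h v) (psi x y h v) - 3 * p 2 * qM G x y h v v)
    (c₃ := G.F (psi x y h v) - 3 * v 2 * qM G x y h v v) fun r => by
      have e : psi x y h p + r • psi x y h v = psi x y h (p + r • v) := by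
        simp only [psi, Pi.add_apply, Pi.smul_apply, smul_eq_mul]; module
      have hF := F_psi (G := G) h0 h (p + r • v)
      have hq : qM G x y h (p + r • v) (p + r • v) = r ^ 2 * qM G x y h v v := by
        rw [qM_add, qM_comm _ _ _ _ p, k, qM_comm _ _ _ _ (r • v), qM_add, qM_comm _ _ _ _ p, show
          qM G x y h (r • v) (r • v) = r * (r * qM G x y h v v) by
            simp [qM, smul_dotProduct, Matrix.mulVec_smul, dotProduct_smul], k]
        ring
      rw [← e, G.F_add_smul, F_psi h0 h p, k, hq, Pi.add_apply, Pi.smul_apply, smul_eq_mul] at hF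
      linear_combination hF
  simpa using this

end Smooth

/-- The lines of `G` in a plane through the line, other than it. -/
def IsTri (G : Cubic K (V K)) (L H : Submodule K (V K)) : Prop :=
  ∃ L' L'' : Submodule K (V K), IsLine G L' ∧ IsLine G L'' ∧ L' ≠ L ∧ L'' ≠ L ∧ L' ≠ L'' ∧ L' ≤ H ∧ L'' ≤ H

section Planes

variable [IsAlgClosed K] (hsm : G.Smooth) (h0 : ∀ u ∈ Submodule.span K {x, y}, G.F u = 0)
  {h : V K} (hli : LinearIndependent K ![x, y, h])

omit [IsAlgClosed K] in
theorem exists_adapted {p : Fin 3 → K} (hp : p ≠ 0) :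
    ∃ P : Matrix (Fin 3) (Fin 3) K, P.det ≠ 0 ∧ P *ᵥ Pi.single 0 1 = p := by
  obtain ⟨i, hi⟩ : ∃ i, p i ≠ 0 := by
    by_contra! hall; exact hp (funext hall)
  fin_cases i
  · refine ⟨!![p 0, 0, 0; p 1, 1, 0; p 2, 0, 1], by simpa [Matrix.det_fin_three] using hi, ?_⟩
    funext j; fin_cases j <;> simp
  · refine ⟨!![p 0, 1, 0; p 1, 0, 0; p 2, 0, 1], by simpa [Matrix.det_fin_three] using hi, ?_⟩
    funext j; fin_cases j <;> simp
  · refine ⟨!![p 0, 1, 0; p 1, 0, 1; p 2, 0, 0], by simpa [Matrix.det_fin_three] using hi, ?_⟩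
    funext j; fin_cases j <;> simp

include hsm h0 hli in
theorem minor_ne {p : Fin 3 → K} {P : Matrix (Fin 3) (Fin 3) K} (hP : P.det ≠ 0) (hp : P *ᵥ Pi.single 0 1 = p)
    (hker : cM G x y h *ᵥ p = 0) :
    let N := P.transpose * cM G x y h * P
    N 1 1 * N 2 2 - N 1 2 * N 1 2 ≠ 0 := by
  intro N hm
  have hN0 : ∀ i, N i 0 = 0 := fun i => by
    have : N *ᵥ Pi.single 0 1 = 0 := by
      rw [show N = P.transpose * cM G x y h * P from rfl, Matrix.mul_assoc, ← Matrix.mulVec_mulVec,
        ← Matrix.mulVec_mulVec, hp, hker, Matrix.mulVec_zero]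
    simpa using congrFun this i
  have hNt : N.transpose = N := by
    rw [show N = P.transpose * cM G x y h * P from rfl, Matrix.transpose_mul, Matrix.transpose_mul,
      Matrix.transpose_transpose, cM_transpose, Matrix.mul_assoc]
  obtain ⟨a, b, ha, hab, hb⟩ : ∃ a b : K, a ^ 2 = N 1 1 ∧ a * b = N 1 2 ∧ b ^ 2 = N 2 2 := by
    obtain ⟨a, ha⟩ := IsAlgClosed.exists_pow_nat_eq (N 1 1) two_pos
    rcases eq_or_ne a 0 with rfl | ha0
    · have e1 : N 1 1 = 0 := by rw [← ha]; ring
      obtain ⟨b, hb⟩ := IsAlgClosed.exists_pow_nat_eq (N 2 2) two_pos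
      refine ⟨0, b, ha, ?_, hb⟩
      rw [e1] at hm
      have : N 1 2 * N 1 2 = 0 := by linear_combination -hm
      simpa [eq_comm] using this
    · refine ⟨a, N 1 2 / a, ha, by field_simp, ?_⟩
      field_simp
      linear_combination -hm - N 2 2 * ha
  let m : (Fin 3 → K) →ₗ[K] K :=
    ((a • LinearMap.proj 1 + b • LinearMap.proj 2 : (Fin 3 → K) →ₗ[K] K)).comp (Matrix.toLin' P⁻¹)
  refine (not_double_conic hsm h0 hli m).1 fun v => ?_
  have e : qM G x y h v v = (P⁻¹ *ᵥ v) ⬝ᵥ (N *ᵥ (P⁻¹ *ᵥ v)) := by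
    rw [show N = P.transpose * cM G x y h * P from rfl, ← Matrix.mulVec_mulVec, ← Matrix.mulVec_mulVec,
      Matrix.mulVec_mulVec v P P⁻¹, Matrix.mul_nonsing_inv P (isUnit_iff_ne_zero.2 hP), Matrix.one_mulVec,
      Matrix.dotProduct_mulVec, ← Matrix.mulVec_transpose, Matrix.transpose_transpose,
      Matrix.mulVec_mulVec v P P⁻¹, Matrix.mul_nonsing_inv P (isUnit_iff_ne_zero.2 hP), Matrix.one_mulVec]
    rfl
  rw [e]
  have h01 : N 0 1 = 0 := by rw [← congrFun (congrFun hNt 0) 1]; exact hN0 1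
  have h02 : N 0 2 = 0 := by rw [← congrFun (congrFun hNt 0) 2]; exact hN0 2
  have h21 : N 2 1 = N 1 2 := congrFun (congrFun hNt 1) 2
  simp [m, dotProduct, Matrix.mulVec, Fin.sum_univ_three, hN0, h01, h02, h21]
  linear_combination (-(P⁻¹ 1 0 * v 0 + P⁻¹ 1 1 * v 1 + P⁻¹ 1 2 * v 2) ^ 2) * ha + (-2 * (P⁻¹ 1 0 * v 0 + P⁻¹ 1 1 * v 1 + P⁻¹ 1 2 * v 2) * (P⁻¹ 2 0 * v 0 + P⁻¹ 2 1 * v 1 + P⁻¹ 2 2 * v 2)) * hab +
    (-(P⁻¹ 2 0 * v 0 + P⁻¹ 2 1 * v 1 + P⁻¹ 2 2 * v 2) ^ 2) * hb

include hsm h0 hli in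
theorem isTri_of_det_eq_zero (hd : (cM G x y h).det = 0) :
    IsTri G (Submodule.span K {x, y}) (Submodule.span K {x, y} ⊔ Submodule.span K {h}) := by
  obtain ⟨p, hp, hker⟩ := Matrix.exists_mulVec_eq_zero_iff.2 hd
  obtain ⟨P, hP, hPp⟩ := exists_adapted hp
  set N := P.transpose * cM G x y h * P with hN
  have hm : N 1 1 * N 2 2 - N 1 2 * N 1 2 ≠ 0 := minor_ne hsm h0 hli hP hPp hker
  have hq : ∀ v, qM G x y h (P *ᵥ v) (P *ᵥ v) = v ⬝ᵥ (N *ᵥ v) := fun v => by
    rw [hN, ← Matrix.mulVec_mulVec, ← Matrix.mulVec_mulVec, Matrix.dotProduct_mulVec v, ← Matrix.mulVec_transpose,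
      Matrix.transpose_transpose]
    rfl
  have hN0 : ∀ i, N i 0 = 0 := fun i => by
    have : N *ᵥ Pi.single 0 1 = 0 := by
      rw [hN, Matrix.mul_assoc, ← Matrix.mulVec_mulVec, ← Matrix.mulVec_mulVec, hPp, hker, Matrix.mulVec_zero]
    simpa using congrFun this i
  have hNt : N.transpose = N := by
    rw [hN, Matrix.transpose_mul, Matrix.transpose_mul, Matrix.transpose_transpose, cM_transpose, Matrix.mul_assoc]
  obtain ⟨a, b, c, d, e1, e2, e3⟩ := exists_quad_factor (N 1 1) (2 * N 1 2) (N 2 2)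
  have had : a * d - b * c ≠ 0 := fun hz => hm (by
    rw [← e1, ← e3]
    have : (2 * N 1 2) ^ 2 = 4 * (a * c) * (b * d) := by rw [← e2]; linear_combination (a * d - b * c) * hz
    linear_combination (-1 / 4 : K) * this)
  let l₁ : (Fin 3 → K) →ₗ[K] K := ((a • LinearMap.proj 1 + b • LinearMap.proj 2 : (Fin 3 → K) →ₗ[K] K)).comp (Matrix.toLin' P⁻¹)
  let l₂ : (Fin 3 → K) →ₗ[K] K := ((c • LinearMap.proj 1 + d • LinearMap.proj 2 : (Fin 3 → K) →ₗ[K] K)).comp (Matrix.toLin' P⁻¹)
  have hfac : ∀ v, qM G x y h v v = l₁ v * l₂ v := fun v => by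
    have hv : P *ᵥ (P⁻¹ *ᵥ v) = v := by
      rw [Matrix.mulVec_mulVec, Matrix.mul_nonsing_inv P (isUnit_iff_ne_zero.2 hP), Matrix.one_mulVec]
    conv_lhs => rw [← hv]
    rw [hq]
    have h01 : N 0 1 = 0 := by rw [← congrFun (congrFun hNt 0) 1]; exact hN0 1
    have h02 : N 0 2 = 0 := by rw [← congrFun (congrFun hNt 0) 2]; exact hN0 2
    have h21 : N 2 1 = N 1 2 := congrFun (congrFun hNt 1) 2
    simp [l₁, l₂, dotProduct, Matrix.mulVec, Fin.sum_univ_three, hN0, h01, h02, h21]
    linear_combination (-(P⁻¹ 1 0 * v 0 + P⁻¹ 1 1 * v 1 + P⁻¹ 1 2 * v 2) ^ 2) * e1 + (-(P⁻¹ 1 0 * v 0 + P⁻¹ 1 1 * v 1 + P⁻¹ 1 2 * v 2) * (P⁻¹ 2 0 * v 0 + P⁻¹ 2 1 * v 1 + P⁻¹ 2 2 * v 2)) * e2 +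
      (-(P⁻¹ 2 0 * v 0 + P⁻¹ 2 1 * v 1 + P⁻¹ 2 2 * v 2) ^ 2) * e3
  let Ψ : (Fin 3 → K) →ₗ[K] V K :=
    (LinearMap.proj 0).smulRight x + (LinearMap.proj 1).smulRight y + (LinearMap.proj 2).smulRight h
  have hΨ : ∀ v, Ψ v = psi x y h v := fun v => by simp [Ψ, psi]
  have hΨinj : Function.Injective Ψ := fun v w e => psi_inj hli (by rwa [hΨ, hΨ] at e)
  have hPinv : ∀ v, P⁻¹ *ᵥ (P *ᵥ v) = v := fun v => by
    rw [Matrix.mulVec_mulVec, Matrix.nonsing_inv_mul P (isUnit_iff_ne_zero.2 hP), Matrix.one_mulVec]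
  have hl₁ : ∀ v, l₁ (P *ᵥ v) = a * v 1 + b * v 2 := fun v => by simp [l₁, hPinv]
  have hl₂ : ∀ v, l₂ (P *ᵥ v) = c * v 1 + d * v 2 := fun v => by simp [l₂, hPinv]
  have hne₁ : l₁ ≠ 0 := fun hz => by
    have k1 := LinearMap.congr_fun hz (P *ᵥ Pi.single 1 1)
    have k2 := LinearMap.congr_fun hz (P *ᵥ Pi.single 2 1)
    rw [hl₁] at k1 k2
    simp at k1 k2
    exact had (by rw [k1, k2]; ring)
  have hne₂ : l₂ ≠ 0 := fun hz => by
    have k1 := LinearMap.congr_fun hz (P *ᵥ Pi.single 1 1)
    have k2 := LinearMap.congr_fun hz (P *ᵥ Pi.single 2 1)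
    rw [hl₂] at k1 k2
    simp at k1 k2
    exact had (by rw [k1, k2]; ring)
  have hdim : ∀ l : (Fin 3 → K) →ₗ[K] K, l ≠ 0 → finrank K ↥((LinearMap.ker l).map Ψ) = 2 := fun l hl => by
    rw [← (Submodule.equivMapOfInjective Ψ hΨinj (LinearMap.ker l)).finrank_eq]
    have e := LinearMap.finrank_range_add_finrank_ker l
    have e' : LinearMap.range l = ⊤ := LinearMap.range_eq_top.2 (LinearMap.surjective_iff_ne_zero.2 hl)
    rw [e', finrank_top, Module.finrank_self, Module.finrank_fin_fun] at e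
    omega
  have hF : ∀ l l' : (Fin 3 → K) →ₗ[K] K, (∀ v, qM G x y h v v = l v * l' v) →
      ∀ u ∈ (LinearMap.ker l).map Ψ, G.F u = 0 := by
    rintro l l' hl _ ⟨v, hv, rfl⟩
    rw [hΨ, F_psi h0, hl, LinearMap.mem_ker.1 hv]
    ring
  have hfac' : ∀ v, qM G x y h v v = l₂ v * l₁ v := fun v => by rw [hfac, mul_comm]
  have hle : ∀ l : (Fin 3 → K) →ₗ[K] K, (LinearMap.ker l).map Ψ ≤ Submodule.span K {x, y} ⊔ Submodule.span K {h} := by
    rintro l _ ⟨v, -, rfl⟩
    rw [hΨ]; exact psi_mem h v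
  have hneL : ∀ l l' : (Fin 3 → K) →ₗ[K] K, (∀ v, qM G x y h v v = l v * l' v) →
      (LinearMap.ker l).map Ψ ≠ Submodule.span K {x, y} := fun l l' hl he => by
    refine (not_double_conic hsm h0 hli 0).2 fun v hv => ?_
    have hmem : Ψ v ∈ Submodule.span K {x, y} := by
      rw [hΨ, psi, hv, zero_smul, add_zero]; exact Submodule.mem_span_pair.2 ⟨_, _, rfl⟩
    rw [← he] at hmem
    obtain ⟨w, hw, hwv⟩ := hmem
    rw [hl, ← hΨinj hwv, LinearMap.mem_ker.1 hw, zero_mul]
  refine ⟨_, _, ⟨hdim l₁ hne₁, hF l₁ l₂ hfac⟩, ⟨hdim l₂ hne₂, hF l₂ l₁ hfac'⟩, hneL l₁ l₂ hfac, hneL l₂ l₁ hfac',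
    fun he => ?_, hle _, hle _⟩
  have he' : LinearMap.ker l₁ = LinearMap.ker l₂ := Submodule.map_injective_of_injective hΨinj he
  have k : P *ᵥ (b • Pi.single 1 1 - a • Pi.single 2 1) ∈ LinearMap.ker l₁ := by
    rw [LinearMap.mem_ker, hl₁]
    simp; ring
  rw [he', LinearMap.mem_ker, hl₂] at k
  simp at k
  exact had (by linear_combination -k)

include h0 hli in
omit hsm in
theorem det_eq_zero_of_isTri
    (ht : IsTri G (Submodule.span K {x, y}) (Submodule.span K {x, y} ⊔ Submodule.span K {h})) :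
    (cM G x y h).det = 0 := by
  obtain ⟨L', L'', hL', hL'', hne', hne'', hne, hle', hle''⟩ := ht
  let Ψ : (Fin 3 → K) →ₗ[K] V K :=
    (LinearMap.proj 0).smulRight x + (LinearMap.proj 1).smulRight y + (LinearMap.proj 2).smulRight h
  have hΨ : ∀ v, Ψ v = psi x y h v := fun v => by simp [Ψ, psi]
  have hΨinj : Function.Injective Ψ := fun v w e => psi_inj hli (by rwa [hΨ, hΨ] at e)
  have hr : LinearMap.range Ψ = Submodule.span K {x, y} ⊔ Submodule.span K {h} := by
    refine le_antisymm ?_ fun u hu => ?_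
    · rintro _ ⟨v, rfl⟩; rw [hΨ]; exact psi_mem h v
    · obtain ⟨v, rfl⟩ := exists_coords_of_mem hu
      exact ⟨v, hΨ v⟩
  have hdim : ∀ W : Submodule K (V K), W ≤ LinearMap.range Ψ → finrank K ↥(W.comap Ψ) = finrank K W := fun W hW => by
    rw [(Submodule.equivMapOfInjective Ψ hΨinj (W.comap Ψ)).finrank_eq, Submodule.map_comap_eq_of_le hW]
  have hvan : ∀ W, IsLine G W → W ≤ LinearMap.range Ψ → W ≠ Submodule.span K {x, y} →
      ∀ v ∈ W.comap Ψ, qM G x y h v v = 0 := by
    intro W hW hWr hWne v hv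
    obtain ⟨u, hu, hu2⟩ : ∃ u ∈ W.comap Ψ, u 2 ≠ 0 := by
      by_contra! hall
      refine hWne (Submodule.eq_of_le_of_finrank_le (fun w hw => ?_) ((finrank_span_pair_le x y).trans hW.1.ge))
      obtain ⟨v', rfl⟩ := hWr hw
      rw [hΨ, psi, hall v' hw, zero_smul, add_zero]
      exact Submodule.mem_span_pair.2 ⟨_, _, rfl⟩
    let L : (Fin 2 → K) →ₗ[K] (Fin 3 → K) := (LinearMap.proj 0).smulRight v + (LinearMap.proj 1).smulRight u
    have hL : ∀ t, L t ∈ W.comap Ψ := fun t => add_mem (Submodule.smul_mem _ _ hv) (Submodule.smul_mem _ _ hu)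
    have hp : IsPoly fun t => qM G x y h (L t) (L t) := by
      have : (fun t => qM G x y h (L t) (L t)) =
          fun t => ∑ i : Fin 3, ∑ j : Fin 3, ((LinearMap.proj i).comp L) t * cM G x y h i j * ((LinearMap.proj j).comp L) t := by
        funext t; simp [qM, dotProduct, Matrix.mulVec, Finset.mul_sum, mul_assoc]
      rw [this]
      exact IsPoly.sum fun i => IsPoly.sum fun j => ((isPoly_lin _).mul (isPoly_const _)).mul (isPoly_lin _)
    rcases IsPoly.eq_zero_of_mul (isPoly_lin ((LinearMap.proj 2).comp L)) hp (fun t => by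
        have h1 := F_psi (G := G) h0 h (L t)
        rw [← hΨ, hW.2 _ (hL t)] at h1
        show L t 2 * qM G x y h (L t) (L t) = 0
        linear_combination (-1 / 3 : K) * h1) with h1 | h1
    · have := h1 (Pi.single 1 1)
      simp [L] at this
      exact absurd this hu2
    · have := h1 (Pi.single 0 1)
      simpa [L] using this
  have hle1 : L' ≤ LinearMap.range Ψ := hr.ge.trans' hle'
  have hle2 : L'' ≤ LinearMap.range Ψ := hr.ge.trans' hle''
  have hd1 := (hdim L' hle1).trans hL'.1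
  have hd2 := (hdim L'' hle2).trans hL''.1
  have hne3 : L'.comap Ψ ≠ L''.comap Ψ := fun e => hne (by
    rw [← Submodule.map_comap_eq_of_le hle1, ← Submodule.map_comap_eq_of_le hle2, e])
  have hsup : L'.comap Ψ ⊔ L''.comap Ψ = ⊤ := by
    refine Submodule.eq_top_of_finrank_eq (le_antisymm (Submodule.finrank_le _) ?_)
    have hlt : L'.comap Ψ < L'.comap Ψ ⊔ L''.comap Ψ := lt_of_le_of_ne le_sup_left fun e => hne3
      (Submodule.eq_of_le_of_finrank_eq (le_sup_right.trans e.ge) (hd2.trans hd1.symm)).symm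
    have := Submodule.finrank_lt_finrank_of_lt hlt
    rw [Module.finrank_fin_fun]
    omega
  obtain ⟨p, hp, hp0⟩ : ∃ p ∈ L'.comap Ψ ⊓ L''.comap Ψ, p ≠ 0 := by
    refine Submodule.exists_mem_ne_zero_of_ne_bot fun e => ?_
    have h1 := Submodule.finrank_sup_add_finrank_inf_eq (L'.comap Ψ) (L''.comap Ψ)
    rw [e, hsup, finrank_top, finrank_bot, Module.finrank_fin_fun, hd1, hd2] at h1
    omega
  refine Matrix.exists_mulVec_eq_zero_iff.1 ⟨p, hp0, ?_⟩
  have horth : ∀ W : Submodule K (Fin 3 → K), (∀ v ∈ W, qM G x y h v v = 0) → p ∈ W →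
      ∀ v ∈ W, qM G x y h v p = 0 := fun W hW hpW v hv => by
    have e := hW (v + p) (add_mem hv hpW)
    rw [qM_add, qM_comm _ _ _ _ v (v + p), qM_comm _ _ _ _ p (v + p), qM_add, qM_add, hW v hv, hW p hpW,
      qM_comm _ _ _ _ p v] at e
    have : 2 * qM G x y h v p = 0 := by linear_combination e
    simpa using this
  funext i
  obtain ⟨v, hv, v', hv', e⟩ := Submodule.mem_sup.1 (hsup.ge (Submodule.mem_top (x := (Pi.single i 1 : Fin 3 → K))))
  have := congrArg (fun u => qM G x y h u p) e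
  simp only [qM_add, horth _ (hvan L' hL' hle1 hne') hp.1 v hv, horth _ (hvan L'' hL'' hle2 hne'') hp.2 v' hv'] at this
  simpa [qM] using this.symm

end Planes

variable [IsAlgClosed K]

theorem roots_simple (hsm : G.Smooth) (h0 : ∀ u ∈ Submodule.span K {x, y}, G.F u = 0)
    (z w : V K) (hli4 : LinearIndependent K ![x, y, z, w]) (t : K) (hd : (cP G x y z w).det.eval t = 0) :
    (Polynomial.derivative (cP G x y z w).det).eval t ≠ 0 := by
  set h := t • z + w with hh
  have hli : LinearIndependent K ![x, y, h] := Fintype.linearIndependent_iff.2 fun c hc => by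
    have h4 := Fintype.linearIndependent_iff.1 hli4 ![c 0, c 1, c 2 * t, c 2] (by
      simp [Fin.sum_univ_three] at hc
      simp [Fin.sum_univ_four]
      linear_combination (norm := module) hc)
    intro i; fin_cases i <;> [exact h4 0; exact h4 1; exact h4 3]
  have hdet : (cM G x y h).det = 0 := by
    rw [hh, ← cP_map, ← Polynomial.coe_evalRingHom, ← RingHom.mapMatrix_apply, ← RingHom.map_det]
    exact hd
  obtain ⟨p, hp, hker⟩ := Matrix.exists_mulVec_eq_zero_iff.2 hdet
  obtain ⟨P, hP, hPp⟩ := exists_adapted hp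
  have hm := minor_ne hsm h0 hli hP hPp hker
  set C : Matrix (Fin 3) (Fin 3) (Polynomial K) := P.map Polynomial.C with hC
  set N := C.transpose * cP G x y z w * C with hN
  have hev : N.map (Polynomial.eval t) = P.transpose * cM G x y h * P := by
    rw [hN, ← Polynomial.coe_evalRingHom, Matrix.map_mul, Matrix.map_mul, hh, ← cP_map]
    congr 2 <;> · ext i j; simp [hC]
  have hPt : (cP G x y z w).transpose = cP G x y z w := by
    ext i j; fin_cases i <;> fin_cases j <;> simp [cP]
  have hNt : N.transpose = N := by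
    rw [hN, Matrix.transpose_mul, Matrix.transpose_mul, Matrix.transpose_transpose, hPt, Matrix.mul_assoc]
  have hNdet : N.det = Polynomial.C (P.det ^ 2) * (cP G x y z w).det := by
    rw [hN, Matrix.det_mul, Matrix.det_mul, Matrix.det_transpose, hC, ← RingHom.mapMatrix_apply, ← RingHom.map_det,
      map_pow]
    ring
  intro hder
  have hd' : (Polynomial.derivative N.det).eval t = 0 := by
    rw [hNdet, Polynomial.derivative_C_mul, Polynomial.eval_mul, hder, mul_zero]
  have h01 : (N 0 1).eval t = 0 ∧ (N 0 2).eval t = 0 ∧ (N 0 0).eval t = 0 := by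
    have e0 : ∀ i, (N i 0).eval t = 0 := fun i => by
      have : (P.transpose * cM G x y h * P) *ᵥ Pi.single 0 1 = 0 := by
        rw [Matrix.mul_assoc, ← Matrix.mulVec_mulVec, ← Matrix.mulVec_mulVec, hPp, hker, Matrix.mulVec_zero]
      rw [← hev] at this
      simpa using congrFun this i
    exact ⟨by rw [← congrFun (congrFun hNt 0) 1]; exact e0 1, by rw [← congrFun (congrFun hNt 0) 2]; exact e0 2, e0 0⟩
  have h00 : (Polynomial.derivative (N 0 0)).eval t = 0 := by
    rw [det_eq_five N hNt] at hd'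
    simp [h01.1, h01.2.1, h01.2.2] at hd'
    refine hd'.resolve_right fun hz => hm ?_
    simp only [← hev, Matrix.map_apply]
    exact hz
  have hcol : ∀ i, C i 0 = Polynomial.C (p i) := fun i => by rw [← hPp]; simp [hC]
  have hq : (Polynomial.derivative (N 0 0)).eval t =
      G.T x x z * p 0 ^ 2 + 2 * G.T x y z * (p 0 * p 1) + G.T y y z * p 1 ^ 2 +
        2 * (p 0 * p 2) * G.T x z h + 2 * (p 1 * p 2) * G.T y z h + G.T z h h * p 2 ^ 2 := by
    have e : N 0 0 = ∑ i, ∑ j, Polynomial.C (p i * p j) * cP G x y z w i j := by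
      simp only [hN, Matrix.mul_apply, Matrix.transpose_apply, hcol, Finset.sum_mul, map_mul]
      rw [Finset.sum_comm]
      exact Finset.sum_congr rfl fun i _ => Finset.sum_congr rfl fun j _ => by ring
    rw [e]
    simp [Fin.sum_univ_three, cP, hh]
    rw [G.symm₂₃ z w z, show G.T z z z = G.F z from rfl]
    field_simp
    ring
  have hker' := tangent_at_kernel h0 hli hker
  set q := psi x y h p with hqd
  have hx : x ∈ Submodule.span K {x, y} := Submodule.subset_span (Or.inl rfl)
  have hy : y ∈ Submodule.span K {x, y} := Submodule.subset_span (Or.inr rfl)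
  have hqz : G.T q q z = (Polynomial.derivative (N 0 0)).eval t := by
    rw [hq, hqd, psi]
    simp only [map_add, map_smul, LinearMap.add_apply, LinearMap.smul_apply, smul_eq_mul]
    rw [G.symm₁₂ y x z, G.symm₁₂ h x z, G.symm₁₂ h y z, G.symm₂₃ x h z, G.symm₂₃ y h z, G.symm₂₃ h h z,
      G.symm₁₂ h z h]
    ring
  have hall : G.T q q = 0 := by
    refine LinearMap.ext fun u => ?_
    have htop : Submodule.span K (Set.range ![x, y, z, w]) = ⊤ := hli4.span_eq_top_of_card_eq_finrank (by simp)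
    obtain ⟨c, rfl⟩ := (Submodule.mem_span_range_iff_exists_fun K).1 (htop ▸ Submodule.mem_top : u ∈ _)
    have k0 := hker' (Pi.single 0 1)
    have k1 := hker' (Pi.single 1 1)
    have k2 := hker' (Pi.single 2 1)
    simp [psi] at k0 k1 k2
    have kz : G.T q q z = 0 := hqz.trans h00
    have kw : G.T q q w = 0 := by
      have : G.T q q h = 0 := k2
      rw [hh, map_add, map_smul, kz, smul_zero, zero_add] at this
      exact this
    simp [Fin.sum_univ_four, k0, k1, kz, kw]
  have hq0 : q ≠ 0 := fun e => hp (psi_inj hli (by rw [← hqd, e]; simp [psi]))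
  obtain ⟨u, hu⟩ := hsm q hq0 (by show G.T q q q = 0; rw [hall]; rfl)
  exact hu (by rw [hall]; rfl)

/-- Exactly five planes through a line of a smooth cubic surface contain two further lines. -/
theorem five_planes (hsm : G.Smooth) {L : Submodule K (V K)} (hL : IsLine G L) :
    {H : Submodule K (V K) | finrank K H = 3 ∧ L ≤ H ∧ IsTri G L H}.ncard = 5 := by
  classical
  obtain ⟨x, y, hx, hy, hxy⟩ := exists_basis₂ hL.1
  obtain rfl : L = Submodule.span K {x, y} := eq_line hx hy hL.1 hxy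
  have h0 : ∀ u ∈ Submodule.span K {x, y}, G.F u = 0 := hL.2
  obtain ⟨W, hW⟩ := Submodule.exists_isCompl (Submodule.span K {x, y})
  have hW2 : finrank K W = 2 := by
    have h := Submodule.finrank_add_eq_of_isCompl hW
    rw [hL.1, Module.finrank_fin_fun] at h
    omega
  obtain ⟨z₀, w₀, hz₀, hw₀, hzw₀⟩ := exists_basis₂ hW2
  have hbasis : ∀ {a b : V K}, a ∈ W → b ∈ W → LinearIndependent K ![a, b] → LinearIndependent K ![x, y, a, b] := by
    intro a b ha hb hab
    refine Fintype.linearIndependent_iff.2 fun c hc => ?_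
    simp [Fin.sum_univ_four] at hc
    have h1 : c 0 • x + c 1 • y ∈ Submodule.span K {x, y} := Submodule.mem_span_pair.2 ⟨_, _, rfl⟩
    have h2 : c 2 • a + c 3 • b ∈ W := add_mem (W.smul_mem _ ha) (W.smul_mem _ hb)
    have e : c 0 • x + c 1 • y = 0 := Submodule.disjoint_def.1 hW.disjoint _ h1 (by
      rw [show c 0 • x + c 1 • y = -(c 2 • a + c 3 • b) by linear_combination (norm := module) hc]
      exact neg_mem h2)
    have e' : c 2 • a + c 3 • b = 0 := by linear_combination (norm := module) hc - e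
    obtain ⟨k0, k1⟩ := LinearIndependent.pair_iff.1 hxy _ _ e
    obtain ⟨k2, k3⟩ := LinearIndependent.pair_iff.1 hab _ _ e'
    intro i; fin_cases i <;> assumption
  -- a plane whose conic is nondegenerate
  obtain ⟨z, w, hz, hw, hzw, hdz⟩ : ∃ z w, z ∈ W ∧ w ∈ W ∧ LinearIndependent K ![z, w] ∧ (cM G x y z).det ≠ 0 := by
    by_contra! hall
    have hd : ∀ a b, a ∈ W → b ∈ W → LinearIndependent K ![a, b] → ∀ t : K, (cP G x y a b).det.eval t = 0 := by
      intro a b ha hb hab t
      rw [← Polynomial.coe_evalRingHom, RingHom.map_det, RingHom.mapMatrix_apply, Polynomial.coe_evalRingHom, cP_map]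
      refine hall (t • a + b) a (add_mem (W.smul_mem _ ha) hb) ha ?_
      refine LinearIndependent.pair_iff.2 fun r s e => ?_
      obtain ⟨k1, k2⟩ := LinearIndependent.pair_iff.1 hab (r * t + s) r (by linear_combination (norm := module) e)
      exact ⟨k2, by simpa [k2] using k1⟩
    have hz' := hd z₀ w₀ hz₀ hw₀ hzw₀
    have : (cP G x y z₀ w₀).det = 0 := Polynomial.funext fun t => by rw [hz' t, Polynomial.eval_zero]
    exact roots_simple hsm h0 z₀ w₀ (hbasis hz₀ hw₀ hzw₀) 0 (hz' 0) (by rw [this]; simp)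
  have hli4 := hbasis hz hw hzw
  set P := (cP G x y z w).det with hPd
  obtain ⟨hdeg, hcoef⟩ := top_det (G := G) (x := x) (y := y) z w
  have hP0 : P ≠ 0 := fun e => hdz (by rw [← hcoef, ← hPd, e, Polynomial.coeff_zero])
  have hdeg5 : P.natDegree = 5 := le_antisymm hdeg (Polynomial.le_natDegree_of_ne_zero (by rw [hcoef]; exact hdz))
  have hnd : P.roots.Nodup := by
    rw [Multiset.nodup_iff_count_le_one]
    intro t
    rw [Polynomial.count_roots]
    by_contra! hc
    obtain ⟨h1, h2⟩ := (Polynomial.one_lt_rootMultiplicity_iff_isRoot hP0).1 hc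
    exact roots_simple hsm h0 z w hli4 t h1 h2
  have hcard : P.roots.toFinset.card = 5 := by
    rw [Multiset.toFinset_card_of_nodup hnd, IsAlgClosed.card_roots_eq_natDegree, hdeg5]
  have hli3 : ∀ t : K, LinearIndependent K ![x, y, t • z + w] := fun t => Fintype.linearIndependent_iff.2 fun c hc => by
    have h4 := Fintype.linearIndependent_iff.1 hli4 ![c 0, c 1, c 2 * t, c 2] (by
      simp [Fin.sum_univ_three] at hc
      simp [Fin.sum_univ_four]
      linear_combination (norm := module) hc)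
    intro i; fin_cases i <;> [exact h4 0; exact h4 1; exact h4 3]
  let f : K → Submodule K (V K) := fun t => Submodule.span K {x, y} ⊔ Submodule.span K {t • z + w}
  have hinj : Function.Injective f := fun s t e => by
    have hm : s • z + w ∈ f t := e ▸ Submodule.mem_sup_right (Submodule.mem_span_singleton_self _)
    obtain ⟨v, hv⟩ := exists_coords_of_mem hm
    simp only [psi] at hv
    have h4 := Fintype.linearIndependent_iff.1 hli4 ![v 0, v 1, v 2 * t - s, v 2 - 1] (by
      simp [Fin.sum_univ_four]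
      linear_combination (norm := module) hv)
    have k2 : v 2 * t - s = 0 := h4 2
    have k3 : v 2 - 1 = 0 := h4 3
    linear_combination -k2 + t * k3
  have hev : ∀ t, P.eval t = (cM G x y (t • z + w)).det := fun t => by
    rw [hPd, ← Polynomial.coe_evalRingHom, RingHom.map_det, RingHom.mapMatrix_apply, Polynomial.coe_evalRingHom, cP_map]
  have hset : {H : Submodule K (V K) | finrank K H = 3 ∧ Submodule.span K {x, y} ≤ H ∧ IsTri G (Submodule.span K {x, y}) H} =
      f '' (P.roots.toFinset : Set K) := by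
    ext H
    constructor
    · rintro ⟨hH3, hLH, htri⟩
      obtain ⟨u, hu, huW, hu0⟩ : ∃ u, u ∈ H ∧ u ∈ W ∧ u ≠ 0 := by
        obtain ⟨u, hu, hu0⟩ := Submodule.exists_mem_ne_zero_of_ne_bot (p := H ⊓ W) fun e => by
          have h1 := Submodule.finrank_sup_add_finrank_inf_eq H W
          have h2 := Submodule.finrank_le (H ⊔ W)
          rw [e, finrank_bot, hH3, hW2] at h1
          simp only [Module.finrank_fin_fun] at h2
          omega
        exact ⟨u, hu.1, hu.2, hu0⟩
      obtain ⟨s, t, rfl⟩ := exists_smul_add hW2 hz hw hzw huW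
      have hli : LinearIndependent K ![x, y, s • z + t • w] := Fintype.linearIndependent_iff.2 fun c hc => by
        have h4 := Fintype.linearIndependent_iff.1 hli4 ![c 0, c 1, c 2 * s, c 2 * t] (by
          simp [Fin.sum_univ_three] at hc
          simp [Fin.sum_univ_four]
          linear_combination (norm := module) hc)
        have hc2 : c 2 = 0 := by
          by_contra hc2
          have k2 : s = 0 := by simpa [hc2] using h4 2
          have k3 : t = 0 := by simpa [hc2] using h4 3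
          exact hu0 (by simp [k2, k3])
        intro i; fin_cases i <;> [exact h4 0; exact h4 1; exact hc2]
      have hHeq : H = Submodule.span K {x, y} ⊔ Submodule.span K {s • z + t • w} :=
        (Submodule.eq_of_le_of_finrank_eq (sup_le hLH ((Submodule.span_singleton_le_iff_mem _ _).2 hu))
          ((finrank_plane hli).trans hH3.symm)).symm
      rcases eq_or_ne t 0 with rfl | ht
      · exfalso
        have hs : s ≠ 0 := fun e => hu0 (by simp [e])
        rw [zero_smul, add_zero, Submodule.span_singleton_smul_eq (isUnit_iff_ne_zero.2 hs)] at hHeq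
        refine hdz (det_eq_zero_of_isTri h0 ?_ (hHeq ▸ htri))
        refine Fintype.linearIndependent_iff.2 fun c hc => ?_
        have h4 := Fintype.linearIndependent_iff.1 hli4 ![c 0, c 1, c 2, 0] (by
          simp [Fin.sum_univ_three] at hc
          simp [Fin.sum_univ_four]
          linear_combination (norm := module) hc)
        intro i; fin_cases i <;> [exact h4 0; exact h4 1; exact h4 2]
      · have hspan : Submodule.span K {s • z + t • w} = Submodule.span K {(s / t) • z + w} := by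
          rw [show s • z + t • w = t • ((s / t) • z + w) by rw [smul_add, smul_smul, mul_div_cancel₀ _ ht],
            Submodule.span_singleton_smul_eq (isUnit_iff_ne_zero.2 ht)]
        rw [hspan] at hHeq
        refine ⟨s / t, ?_, hHeq.symm⟩
        rw [Finset.mem_coe, Multiset.mem_toFinset, Polynomial.mem_roots hP0, Polynomial.IsRoot.def, hev]
        exact det_eq_zero_of_isTri h0 (hli3 _) (hHeq ▸ htri)
    · rintro ⟨t, ht, rfl⟩
      rw [Finset.mem_coe, Multiset.mem_toFinset, Polynomial.mem_roots hP0, Polynomial.IsRoot.def, hev] at ht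
      exact ⟨finrank_plane (hli3 t), le_sup_left, isTri_of_det_eq_zero hsm h0 (hli3 t) ht⟩
  rw [hset, Set.ncard_image_of_injective _ hinj, Set.ncard_coe_finset, hcard]

/-- Two lines in different planes through a line are disjoint. -/
theorem disjoint_of_planes (hsm : G.Smooth) {L L₁ L₂ H₁ H₂ : Submodule K (V K)} (hL : IsLine G L)
    (h₁ : IsLine G L₁) (h₂ : IsLine G L₂) (hH₁ : finrank K H₁ = 3) (hH₂ : finrank K H₂ = 3) (hne : H₁ ≠ H₂)
    (hLH₁ : L ≤ H₁) (hLH₂ : L ≤ H₂) (hle₁ : L₁ ≤ H₁) (hle₂ : L₂ ≤ H₂) (hn₁ : L₁ ≠ L) (hn₂ : L₂ ≠ L) :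
    L₁ ⊓ L₂ = ⊥ := by
  by_contra hb
  obtain ⟨e, he, he0⟩ := Submodule.exists_mem_ne_zero_of_ne_bot hb
  have heL : e ∈ L := by
    have hinf : L = H₁ ⊓ H₂ := Submodule.eq_of_le_of_finrank_le (le_inf hLH₁ hLH₂) (by
      have hlt : H₁ ⊓ H₂ < H₁ := lt_of_le_of_ne inf_le_left fun e' =>
        hne (Submodule.eq_of_le_of_finrank_eq (e'.ge.trans inf_le_right) (hH₁.trans hH₂.symm))
      have := Submodule.finrank_lt_finrank_of_lt hlt
      have := hL.1
      omega)
    rw [hinf]; exact ⟨hle₁ he.1, hle₂ he.2⟩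
  obtain ⟨w, hw⟩ := hsm e he0 (hL.2 e heL)
  have h3 := finrank_tan (G := G) (b := e) fun h => hw (by rw [h]; rfl)
  have key : ∀ {M H : Submodule K (V K)}, IsLine G M → e ∈ M → M ≠ L → M ≤ H → L ≤ H → finrank K H = 3 →
      H = tan G e := by
    intro M H hM heM hML hMH hLH hH
    have hlt : L < L ⊔ M := lt_of_le_of_ne le_sup_left fun h' =>
      hML (Submodule.eq_of_le_of_finrank_eq (le_sup_right.trans h'.ge) (hM.1.trans hL.1.symm))
    have h4 := Submodule.finrank_lt_finrank_of_lt hlt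
    have h5 := Submodule.finrank_mono (sup_le hLH hMH)
    have e1 : L ⊔ M = H := Submodule.eq_of_le_of_finrank_le (sup_le hLH hMH) (by have := hL.1; omega)
    exact Submodule.eq_of_le_of_finrank_eq (e1 ▸ sup_le (line_le_tan hL heL) (line_le_tan hM heM)) (hH.trans h3.symm)
  exact hne ((key h₁ he.1 hn₁ hle₁ hLH₁ hH₁).trans (key h₂ he.2 hn₂ hle₂ hLH₂ hH₂).symm)

end Groth.Agent.Cubic70
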